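import Mathlib
import Cfsg.Agent.Lib.ZStar.Principal
import Cfsg.Agent.Lib.Cores.Fitting
import Cfsg.Agent.Lib.PLocal.Cores
import Cfsg.Agent.Lib.Counting.SylowCount
import Cfsg.Agent.Lib.Characters.Kernel
import Cfsg.Agent.BlockCharsA.NormalSupport

/-!
The centralizer of an involution `t` with solvable `C(t)`, abelian Sylow `2`-subgroup of order 8 and
automizer of order 3 in `C(t)`: it is `O (2 × A₄)`.
-/

set_option autoImplicit false
set_option linter.style.haveILetI false
set_option linter.unusedSectionVars false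

namespace Cfsg.Agent.CharTheory.SylowEightAutomizer

open Cfsg Cfsg.Agent.Blocks Cfsg.Agent.Characters

universe u

variable {G : Type u} [Group G] [Finite G] {S : Sylow 2 G} {t x : G}

/-- The local data. -/
structure Setting (S : Sylow 2 G) (t x : G) : Prop where
  comm : ∀ a ∈ (S : Subgroup G), ∀ b ∈ (S : Subgroup G), a * b = b * a
  card : Nat.card (S : Subgroup G) = 8
  t_mem : t ∈ (S : Subgroup G)
  t_ord : orderOf t = 2
  solv : Group.IsSolvable ↥(Subgroup.centralizer ({t} : Set G))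
  x_comm : Commute x t
  x_norm : x ∈ Subgroup.normalizer ((S : Subgroup G) : Set G)
  x_ord : ∃ k : ℕ, orderOf x = 3 ^ k
  x_ne : x ∉ Subgroup.centralizer ((S : Subgroup G) : Set G)
  x_fix : ∀ s ∈ (S : Subgroup G), Commute x s → s = 1 ∨ s = t
  x_cube : x ^ 3 ∈ Subgroup.centralizer ((S : Subgroup G) : Set G)
  cover : ∀ m ∈ Subgroup.normalizer ((S : Subgroup G) : Set G), Commute m t →
    ∃ i : ℕ, (x ^ i)⁻¹ * m ∈ Subgroup.centralizer ((S : Subgroup G) : Set G)

/-- The element `x` in the centralizer of `t`. -/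
def Setting.xC (h : Setting S t x) : Subgroup.centralizer ({t} : Set G) :=
  ⟨x, Subgroup.mem_centralizer_singleton_iff.2 h.x_comm.eq⟩

/-- The odd core of the centralizer of `t`. -/
abbrev core (t : G) : Subgroup (Subgroup.centralizer ({t} : Set G)) :=
  Cfsg.pPrimeCore 2 (Subgroup.centralizer ({t} : Set G))

namespace Setting

variable (h : Setting S t x)
include h

theorem sylow_le : (S : Subgroup G) ≤ Subgroup.centralizer ({t} : Set G) := fun s hs =>
  Subgroup.mem_centralizer_singleton_iff.2 (h.comm s hs t h.t_mem)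

theorem odd_core : ¬ 2 ∣ Nat.card (core t) :=
  PLocal.Cores.not_dvd_card_pPrimeCore (by norm_num)

omit h in
theorem orderOf_odd {c : Subgroup.centralizer ({t} : Set G)} (hc : c ∈ core t) :
    ¬ 2 ∣ orderOf c := fun h2 =>
  PLocal.Cores.not_dvd_card_pPrimeCore (p := 2) (by norm_num)
    (h2.trans ((core t).orderOf_dvd_natCard hc))

theorem core_sylow {c : Subgroup.centralizer ({t} : Set G)} (hc : c ∈ core t)
    (hs : (c : G) ∈ (S : Subgroup G)) : c = 1 := by
  haveI : Fact (Nat.Prime 2) := ⟨Nat.prime_two⟩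
  obtain ⟨k, hk⟩ := S.isPGroup' ⟨(c : G), hs⟩
  have hd : orderOf c ∣ 2 ^ k := orderOf_dvd_of_pow_eq_one (Subtype.ext (by
    simpa using congrArg (fun z : (S : Subgroup G) => (z : G)) hk))
  obtain ⟨j, -, hj⟩ := (Nat.dvd_prime_pow Nat.prime_two).1 hd
  refine orderOf_eq_one_iff.1 ?_
  rcases Nat.eq_zero_or_pos j with h0 | h0
  · rw [hj, h0, pow_zero]
  · exact absurd (hj ▸ dvd_pow_self 2 h0.ne') (orderOf_odd hc)

theorem quotient_facts :
    ∃ Q : Subgroup (Subgroup.centralizer ({t} : Set G) ⧸ core t), Q.Normal ∧ IsPGroup 2 Q ∧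
      Subgroup.centralizer (Q : Set (Subgroup.centralizer ({t} : Set G) ⧸ core t)) ≤ Q ∧
      Q = ((S : Subgroup G).subgroupOf (Subgroup.centralizer ({t} : Set G))).map
        (QuotientGroup.mk' (core t)) ∧
      Subgroup.normalizer (Q : Set (Subgroup.centralizer ({t} : Set G) ⧸ core t)) =
        (Subgroup.normalizer (((S : Subgroup G).subgroupOf (Subgroup.centralizer ({t} : Set G)) :
          Subgroup (Subgroup.centralizer ({t} : Set G))) :
            Set (Subgroup.centralizer ({t} : Set G)))).map (QuotientGroup.mk' (core t)) := by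
  haveI : Fact (Nat.Prime 2) := ⟨Nat.prime_two⟩
  haveI := h.solv
  set C := Subgroup.centralizer ({t} : Set G)
  let π := QuotientGroup.mk' (core t)
  let SC : Sylow 2 C := S.subtype h.sylow_le
  haveI : Group.IsSolvable (C ⧸ core t) :=
    solvable_of_surjective (QuotientGroup.mk'_surjective (core t))
  let P : Sylow 2 (C ⧸ core t) := SC.mapSurjective (QuotientGroup.mk'_surjective (core t))
  have hP : (P : Subgroup (C ⧸ core t)) = ((S : Subgroup G).subgroupOf C).map π := rfl
  have hbot : pPrimeCore 2 (C ⧸ core t) = ⊥ := PLocal.Cores.pPrimeCore_quotient_pPrimeCore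
  have hF : fittingSubgroup (C ⧸ core t) ≤ (P : Subgroup (C ⧸ core t)) := by
    rw [Cores.fittingSubgroup_eq_iSup]
    refine iSup_le fun q => ?_
    haveI : Fact (q : ℕ).Prime := ⟨Nat.prime_of_mem_primeFactors q.2⟩
    by_cases hq : (q : ℕ) = 2
    · rw [hq]; exact PLocal.Cores.pCore_le_sylow P
    · refine le_trans (le_of_le_of_eq ?_ hbot) bot_le
      haveI : (pCore (q : ℕ) (C ⧸ core t)).Normal :=
        Subgroup.sSup_normal _ (fun _ hN => hN.1)
      refine PLocal.Cores.le_pPrimeCore ?_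
      obtain ⟨k, hk⟩ := (PLocal.Cores.isPGroup_pCore (p := (q : ℕ))
        (G := C ⧸ core t)).exists_card_eq
      rw [hk]
      exact Nat.Coprime.pow_left k ((Nat.coprime_primes Fact.out Nat.prime_two).2 hq)
  have hcomm : ∀ a ∈ (P : Subgroup (C ⧸ core t)), ∀ b ∈ (P : Subgroup (C ⧸ core t)),
      a * b = b * a := by
    rw [hP]
    rintro _ ⟨a, ha, rfl⟩ _ ⟨b, hb, rfl⟩
    rw [← map_mul, ← map_mul,
      show a * b = b * a from Subtype.ext (h.comm _ ha _ hb)]
  have hPF : (P : Subgroup (C ⧸ core t)) = fittingSubgroup (C ⧸ core t) :=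
    le_antisymm (fun a ha => Cores.centralizer_fittingSubgroup_le (by
      rw [Subgroup.mem_centralizer_iff]
      exact fun b hb => hcomm b (hF hb) a ha)) hF
  refine ⟨P, ?_, P.isPGroup', ?_, hP, ?_⟩
  · rw [hPF]; exact Subgroup.sSup_normal _ (fun _ hN => hN.1)
  · rw [hPF]; exact Cores.centralizer_fittingSubgroup_le
  · exact Counting.SylowCount.normalizer_map_mk' SC (core t)

/-- Characters trivial on the core lie in the principal block. -/
theorem mem_principal {M : Ideal Cfsg.AlgInt} (hM : Cfsg.IsPModular 2 M)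
    (ξ : Cfsg.IrrCharacter (Subgroup.centralizer ({t} : Set G)))
    (hξ : ∀ n ∈ core t, (ξ : Subgroup.centralizer ({t} : Set G) → ℂ) n =
      (ξ : Subgroup.centralizer ({t} : Set G) → ℂ) 1) :
    ξ ∈ Cfsg.principalBlock M (Subgroup.centralizer ({t} : Set G)) := by
  obtain ⟨Q, hQn, hQp, hQc, -, -⟩ := h.quotient_facts
  haveI := hQn
  obtain ⟨η, -, hη, hirr⟩ := exists_deflate_quotient (core t) (irr_isCharacter ξ) hξ
  let η' : Cfsg.IrrCharacter (Subgroup.centralizer ({t} : Set G) ⧸ core t) := ⟨η, hirr ξ.2⟩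
  have h1 := BlockCharsA.NormalSupport.sameBlock_of_selfCentralizing hM hQp hQc (trivIrr _) η'
  have h2 := sameBlock_inflate hM (QuotientGroup.mk' (core t))
    (QuotientGroup.mk'_surjective (core t)) h1
  have e : η ∘ QuotientGroup.mk' (core t) = (ξ : Subgroup.centralizer ({t} : Set G) → ℂ) := funext hη
  rw [ZStar.Principal.mem_principal_iff, ← e]
  exact h2

/-- The structure of the centralizer and its linear characters of order 3. -/
theorem exists_lam {ω : ℂ} (hω : IsPrimitiveRoot ω 3) :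
    (∀ c : Subgroup.centralizer ({t} : Set G), ∃ o ∈ core t,
      ∃ s : Subgroup.centralizer ({t} : Set G), (s : G) ∈ (S : Subgroup G) ∧
        ∃ i : ℕ, c = o * s * h.xC ^ i) ∧
      h.xC ^ 3 ∈ core t ∧
      ∃ lam : Subgroup.centralizer ({t} : Set G) →* ℂˣ, (lam h.xC : ℂ) = ω ∧
        (∀ o ∈ core t, lam o = 1) ∧
        ∀ s : Subgroup.centralizer ({t} : Set G), (s : G) ∈ (S : Subgroup G) → lam s = 1 := by
  haveI : Fact (Nat.Prime 2) := ⟨Nat.prime_two⟩
  obtain ⟨Q, hQn, hQp, hQc, hQ, hQN⟩ := h.quotient_facts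
  haveI := hQn
  set C := Subgroup.centralizer ({t} : Set G)
  set π := QuotientGroup.mk' (core t) with hπ
  set y := h.xC
  have hcent : ∀ {c : C}, (c : G) ∈ Subgroup.centralizer ((S : Subgroup G) : Set G) → π c ∈ Q := by
    intro c hc
    refine hQc ?_
    rw [Subgroup.mem_centralizer_iff, hQ]
    rintro _ ⟨s, hs, rfl⟩
    rw [← map_mul, ← map_mul, show s * c = c * s from
      Subtype.ext (Subgroup.mem_centralizer_iff.1 hc _ hs)]
  have hdecomp : ∀ c : C, ∃ i : ℕ, (π y ^ i)⁻¹ * π c ∈ Q := by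
    intro c
    have : π c ∈ Subgroup.normalizer (Q : Set (C ⧸ core t)) := by
      rw [Q.normalizer_eq_top]; exact Subgroup.mem_top _
    rw [hQN] at this
    obtain ⟨m, hm, hmc⟩ := this
    have hmN : (m : G) ∈ Subgroup.normalizer ((S : Subgroup G) : Set G) := by
      rw [Subgroup.mem_normalizer_iff]
      intro g
      constructor
      · intro hg
        exact (Subgroup.mem_normalizer_iff.1 hm ⟨g, h.sylow_le hg⟩).1 hg
      · intro hg
        have hgC : g ∈ C := by
          have : g = ((m : G)⁻¹ * ((m : G) * g * (m : G)⁻¹)) * m := by group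
          rw [this]
          exact mul_mem (mul_mem (inv_mem m.2) (h.sylow_le hg)) m.2
        exact (Subgroup.mem_normalizer_iff.1 hm ⟨g, hgC⟩).2 hg
    obtain ⟨i, hi⟩ := h.cover m hmN (Subgroup.mem_centralizer_singleton_iff.1 m.2)
    refine ⟨i, ?_⟩
    rw [← hmc, ← map_pow, ← map_inv, ← map_mul]
    exact hcent (c := (y ^ i)⁻¹ * m) (by simpa [y, xC] using hi)
  have hy3 : π y ^ 3 = 1 := by
    have h1 : π (y ^ 3) ∈ Q := hcent (by simpa [y, xC] using h.x_cube)
    obtain ⟨k, hk⟩ := hQp ⟨_, h1⟩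
    obtain ⟨l, hl⟩ := h.x_ord
    have d1 : orderOf (π (y ^ 3)) ∣ 2 ^ k :=
      orderOf_dvd_of_pow_eq_one (by simpa using congrArg (Subtype.val : Q → C ⧸ core t) hk)
    have d2 : orderOf (π (y ^ 3)) ∣ 3 ^ l := by
      refine ((orderOf_map_dvd π (y ^ 3)).trans (orderOf_pow_dvd 3)).trans ?_
      rw [← hl, ← Subgroup.orderOf_coe y]
      rfl
    have := Nat.dvd_one.1 ((Nat.Coprime.pow k l (by norm_num : Nat.Coprime 2 3)) ▸
      Nat.dvd_gcd d1 d2)
    rw [← map_pow]
    exact orderOf_eq_one_iff.1 this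
  have hyQ : π y ∉ Q := by
    intro hy
    obtain ⟨k, hk⟩ := hQp ⟨_, hy⟩
    have d1 : orderOf (π y) ∣ 2 ^ k :=
      orderOf_dvd_of_pow_eq_one (by simpa using congrArg (Subtype.val : Q → C ⧸ core t) hk)
    have d2 : orderOf (π y) ∣ 3 ^ 1 := orderOf_dvd_of_pow_eq_one (by rw [pow_one]; exact hy3)
    have hy1 : π y = 1 := orderOf_eq_one_iff.1 (Nat.dvd_one.1
      ((Nat.Coprime.pow k 1 (by norm_num : Nat.Coprime 2 3)) ▸ Nat.dvd_gcd d1 d2))
    rw [hπ, QuotientGroup.mk'_apply, QuotientGroup.eq_one_iff] at hy1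
    refine h.x_ne (Subgroup.mem_centralizer_iff.2 fun s hs => ?_)
    let s' : C := ⟨s, h.sylow_le hs⟩
    have hN : (core t).Normal := inferInstance
    have hmem : y * (s' * y⁻¹ * s'⁻¹) ∈ core t := mul_mem hy1 (hN.conj_mem _ (inv_mem hy1) s')
    have hS : ((y * (s' * y⁻¹ * s'⁻¹) : C) : G) ∈ (S : Subgroup G) := by
      show x * (s * x⁻¹ * s⁻¹) ∈ (S : Subgroup G)
      rw [show x * (s * x⁻¹ * s⁻¹) = (x * s * x⁻¹) * s⁻¹ by group]
      exact mul_mem ((Subgroup.mem_normalizer_iff.1 h.x_norm s).1 hs) (inv_mem hs)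
    have h1 : x * (s * x⁻¹ * s⁻¹) = 1 := congrArg Subtype.val (h.core_sylow hmem hS)
    calc s * x = (x * (s * x⁻¹ * s⁻¹))⁻¹ * (x * s) := by group
      _ = x * s := by rw [h1, inv_one, one_mul]
  have hgen : ∀ w : (C ⧸ core t) ⧸ Q, w ∈ Subgroup.zpowers (QuotientGroup.mk' Q (π y)) := by
    intro w
    obtain ⟨w', rfl⟩ := QuotientGroup.mk'_surjective Q w
    obtain ⟨c, rfl⟩ := QuotientGroup.mk'_surjective (core t) w'
    obtain ⟨i, hi⟩ := hdecomp c
    refine ⟨i, ?_⟩
    show QuotientGroup.mk' Q (π y) ^ (i : ℤ) = QuotientGroup.mk' Q (π c)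
    rw [zpow_natCast, ← map_pow]
    show ((π y ^ i : _ ⧸ core t) : (_ ⧸ core t) ⧸ Q) = ((π c : _ ⧸ core t) : (_ ⧸ core t) ⧸ Q)
    rw [QuotientGroup.eq]
    exact hi
  let u : ℂˣ := Units.mk0 ω (hω.ne_zero (by norm_num))
  have hu : orderOf u ∣ orderOf (QuotientGroup.mk' Q (π y)) := by
    have h3 : orderOf (QuotientGroup.mk' Q (π y)) = 3 := by
      haveI : Fact (Nat.Prime 3) := ⟨Nat.prime_three⟩
      refine orderOf_eq_prime (by rw [← map_pow, hy3, map_one]) fun e => hyQ ?_
      rwa [QuotientGroup.mk'_apply, QuotientGroup.eq_one_iff] at e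
    rw [h3]
    exact orderOf_dvd_of_pow_eq_one (Units.ext (by simpa [u] using hω.pow_eq_one))
  let l0 := monoidHomOfForallMemZpowers hgen hu
  refine ⟨fun c => ?_, ?_, l0.comp ((QuotientGroup.mk' Q).comp π), ?_, fun o ho => ?_,
    fun s hs => ?_⟩
  · obtain ⟨i, hi⟩ := hdecomp c
    have h1 : π c * (π y ^ i)⁻¹ ∈ Q := by
      have := hQn.conj_mem _ hi (π y ^ i)
      rwa [mul_inv_cancel_left] at this
    rw [hQ] at h1
    obtain ⟨s, hs, hsc⟩ := h1
    refine ⟨c * (y ^ i)⁻¹ * s⁻¹, ?_, s, hs, i, by group⟩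
    rw [← QuotientGroup.eq_one_iff]
    show π (c * (y ^ i)⁻¹ * s⁻¹) = 1
    rw [map_mul, map_mul, map_inv, map_inv, map_pow, hsc, mul_inv_cancel]
  · rw [← QuotientGroup.eq_one_iff]
    show π (y ^ 3) = 1
    rw [map_pow, hy3]
  · show (l0 (QuotientGroup.mk' Q (π y)) : ℂ) = ω
    rw [monoidHomOfForallMemZpowers_apply_gen]
    rfl
  · rw [MonoidHom.comp_apply, MonoidHom.comp_apply,
      show π o = 1 from (QuotientGroup.eq_one_iff o).2 ho, map_one, map_one]
  · rw [MonoidHom.comp_apply, MonoidHom.comp_apply,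
      show QuotientGroup.mk' Q (π s) = 1 from (QuotientGroup.eq_one_iff _).2
        (by rw [hQ]; exact Subgroup.mem_map_of_mem _ hs), map_one]

end Setting

end Cfsg.Agent.CharTheory.SylowEightAutomizer
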