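import Mathlib
import Cfsg.Prelude.Def_Transfer
import Cfsg.Agent.Lib.CharTheory.SylowEightAutomizer.Local
import Cfsg.Agent.GroupStructure3.FrattiniAut

/-!
The automizer of an elementary abelian Sylow `2`-subgroup of order 8 of a perfect group has order 7 or
21; in the second case it fuses all involutions and gives the local setting.
-/

set_option autoImplicit false
set_option linter.style.haveILetI false
set_option linter.unusedSectionVars false

namespace Cfsg.Agent.CharTheory.SylowEightAutomizer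

universe u

variable {G : Type u} [Group G] [Finite G]

/-- A central-in-its-normalizer element of an abelian Sylow subgroup of a perfect group is trivial. -/
theorem eq_one_of_fixed (S : Sylow 2 G) (hab : ∀ a ∈ (S : Subgroup G), ∀ b ∈ (S : Subgroup G),
    a * b = b * a) (hperf : commutator G = ⊤) {z : G} (hz : z ∈ (S : Subgroup G)) (hz2 : z ^ 2 = 1)
    (hfix : ∀ g ∈ Subgroup.normalizer ((S : Subgroup G) : Set G), g * z * g⁻¹ = z) : z = 1 := by
  haveI : Fact (Nat.Prime 2) := ⟨Nat.prime_two⟩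
  letI : CommGroup (S : Subgroup G) :=
    { (inferInstance : Group (S : Subgroup G)) with
      mul_comm := fun a b => Subtype.ext (hab _ a.2 _ b.2) }
  haveI : IsMulCommutative (S : Subgroup G) := ⟨⟨fun a b => Subtype.ext (hab _ a.2 _ b.2)⟩⟩
  have key : ∀ (k : ℕ) (g₀ : G), g₀⁻¹ * z ^ k * g₀ ∈ (S : Subgroup G) →
      g₀⁻¹ * z ^ k * g₀ = z ^ k := by
    intro k g₀ hk
    obtain ⟨n, hn, hne⟩ := Sylow.conj_eq_normalizer_conj_of_mem S (z ^ k) g₀ (pow_mem hz k) hk
    have h1 := hfix n⁻¹ (inv_mem hn)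
    rw [inv_inv] at h1
    rw [hne]
    have h2 := (MulAut.conj n⁻¹).toMonoidHom.map_pow z k
    simp only [MulEquiv.coe_toMonoidHom, MulAut.conj_apply, inv_inv, h1] at h2
    exact h2
  have h1 := MonoidHom.transfer_eq_pow (MonoidHom.id (S : Subgroup G)) z key
  have hker : z ∈ (MonoidHom.transfer (MonoidHom.id (S : Subgroup G))).ker := by
    refine Abelianization.commutator_subset_ker _ ?_
    rw [hperf]
    exact Subgroup.mem_top z
  rw [MonoidHom.mem_ker, h1] at hker
  have h2 : z ^ (S : Subgroup G).index = 1 := congrArg Subtype.val hker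
  have h3 := pow_gcd_eq_one.2 ⟨hz2, h2⟩
  rwa [Nat.Coprime.gcd_eq_one ((Nat.Prime.coprime_iff_not_dvd Nat.prime_two).2 S.not_dvd_index),
    pow_one] at h3

/-- The fixed points of an automorphism. -/
def fixed {Q : Type u} [Group Q] (a : MulAut Q) : Subgroup Q :=
  (a.toMonoidHom).eqLocus (MonoidHom.id Q)

theorem mem_fixed {Q : Type u} [Group Q] {a : MulAut Q} {z : Q} : z ∈ fixed a ↔ a z = z := Iff.rfl

/-- An automorphism of prime order of a group of order 8: the number of fixed points. -/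
theorem card_fixed {Q : Type u} [Group Q] [Finite Q] (hQ : Nat.card Q = 8) {a : MulAut Q} {p : ℕ}
    (hp : p.Prime) (ha : orderOf a = p) :
    8 ≡ Nat.card (fixed a) [MOD p] ∧ Nat.card (fixed a) ∣ 8 ∧ Nat.card (fixed a) ≠ 8 := by
  haveI : Fact p.Prime := ⟨hp⟩
  have hA : IsPGroup p (Subgroup.zpowers a) := IsPGroup.of_card (n := 1) (by
    rw [Nat.card_zpowers, ha, pow_one])
  have h := hA.card_modEq_card_fixedPoints Q
  have e : MulAction.fixedPoints (Subgroup.zpowers a) Q = (fixed a : Set Q) := by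
    ext z
    simp only [MulAction.mem_fixedPoints, SetLike.mem_coe, mem_fixed, Subtype.forall]
    refine ⟨fun h => h a (Subgroup.mem_zpowers a), fun h b hb => ?_⟩
    have : a ∈ MulAction.stabilizer (MulAut Q) z := h
    exact Subgroup.zpowers_le.2 this hb
  rw [hQ, e] at h
  refine ⟨h, hQ ▸ (fixed a).card_subgroup_dvd_card, fun h8 => ?_⟩
  have htop : fixed a = ⊤ := Subgroup.eq_top_of_card_eq _ (h8.trans hQ.symm)
  have : a = 1 := MulEquiv.ext fun z => (mem_fixed.1 (htop ▸ Subgroup.mem_top z))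
  rw [this, orderOf_one] at ha
  exact hp.ne_one ha.symm

/-- The automizer has order 7, or we are in the setting with one class of involutions. -/
theorem dichotomy (S : Sylow 2 G) (hS : Cfsg.IsElementaryAbelian 2 (S : Subgroup G))
    (hS8 : Nat.card (S : Subgroup G) = 8) (hperf : commutator G = ⊤)
    (hC : ∀ t : G, orderOf t = 2 → Group.IsSolvable ↥(Subgroup.centralizer ({t} : Set G))) :
    (Subgroup.centralizer ((S : Subgroup G) : Set G)).relIndex
        (Subgroup.normalizer ((S : Subgroup G) : Set G)) = 7 ∨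
      ∃ t x, Setting S t x ∧ ∀ u : G, orderOf u = 2 → ∃ g : G, g * u * g⁻¹ = t := by
  classical
  haveI : Fact (Nat.Prime 2) := ⟨Nat.prime_two⟩
  obtain ⟨hcm, hexp⟩ := hS
  have hab : ∀ a ∈ (S : Subgroup G), ∀ b ∈ (S : Subgroup G), a * b = b * a := fun a ha b hb =>
    congrArg Subtype.val (hcm.is_comm.comm (⟨a, ha⟩ : (S : Subgroup G)) ⟨b, hb⟩)
  letI : CommGroup (S : Subgroup G) :=
    { (inferInstance : Group (S : Subgroup G)) with
      mul_comm := fun a b => Subtype.ext (hab _ a.2 _ b.2) }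
  set N := Subgroup.normalizer ((S : Subgroup G) : Set G) with hN
  set f := Subgroup.normalizerMonoidHom (S : Subgroup G) with hf
  have hfx : ∀ (g : N) (z : (S : Subgroup G)), ((f g) z : G) = (g : G) * z * (g : G)⁻¹ :=
    fun g z => rfl
  have hker : ∀ g : N, f g = 1 ↔ (g : G) ∈ Subgroup.centralizer ((S : Subgroup G) : Set G) := by
    intro g
    rw [← MonoidHom.mem_ker, hf, Subgroup.normalizerMonoidHom_ker, Subgroup.mem_subgroupOf]
  set n := Nat.card f.range with hn
  have hidx : (Subgroup.centralizer ((S : Subgroup G) : Set G)).relIndex N = n := by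
    rw [hn, ← Subgroup.index_ker, hf, Subgroup.normalizerMonoidHom_ker]
    rfl
  rw [hidx]
  have h168 : n ∣ 168 := by
    have h := Cfsg.Agent.GroupStructure3.FrattiniAut.card_mulAut_elementary (Q := (S : Subgroup G))
      (p := 2) (r := 3) (by rw [hS8]; norm_num) (fun z => Subtype.ext (hexp z z.2))
    rw [show (∏ i ∈ Finset.range 3, (2 ^ 3 - 2 ^ i)) = 168 by decide] at h
    rw [hn, ← h]
    exact Subgroup.card_subgroup_dvd_card _
  have hodd : ¬ 2 ∣ n := by
    intro h2
    refine S.not_dvd_index (h2.trans ?_)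
    rw [← hidx]
    exact (Subgroup.relIndex_dvd_of_le_left _ (fun s hs =>
      Subgroup.mem_centralizer_iff.2 fun b hb => hab b hb s hs)).trans
      (Subgroup.relIndex_dvd_index_of_le Subgroup.le_normalizer)
  have h21 : n ∣ 21 := by
    have : n ∣ 2 ^ 3 * 21 := by norm_num; exact h168
    exact (Nat.Coprime.pow_right 3 ((Nat.Prime.coprime_iff_not_dvd Nat.prime_two).2
      hodd).symm).dvd_of_dvd_mul_left this
  have hnofix : ∀ z : (S : Subgroup G), (∀ g : N, f g z = z) → z = 1 := fun z hz =>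
    Subtype.ext (eq_one_of_fixed S hab hperf z.2 (hexp z z.2) fun g hg =>
      congrArg Subtype.val (hz ⟨g, hg⟩))
  have h7 : 7 ∣ n := by
    by_contra h7
    have hn3 : n ∣ 3 := ((Nat.Prime.coprime_iff_not_dvd (by norm_num : Nat.Prime 7)).2
      h7).symm.dvd_of_dvd_mul_left (show n ∣ 7 * 3 by norm_num; exact h21)
    haveI : Fact (Nat.Prime 3) := ⟨Nat.prime_three⟩
    obtain ⟨k, -, hk⟩ := (Nat.dvd_prime_pow Nat.prime_three).1
      (show n ∣ 3 ^ 1 by rwa [pow_one])
    have hp : IsPGroup 3 f.range := IsPGroup.of_card (n := k) (hn ▸ hk)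
    have hmod := hp.card_modEq_card_fixedPoints (S : Subgroup G)
    rw [hS8] at hmod
    have : Nat.card (MulAction.fixedPoints f.range (S : Subgroup G)) = 1 := by
      rw [Nat.card_eq_one_iff_unique]
      refine ⟨⟨fun a b => Subtype.ext ?_⟩, ⟨⟨1, fun g => map_one (g : MulAut (S : Subgroup G))⟩⟩⟩
      rw [hnofix _ fun g => a.2 ⟨f g, g, rfl⟩, hnofix _ fun g => b.2 ⟨f g, g, rfl⟩]
    rw [this] at hmod
    exact absurd hmod (by decide)
  rcases (show n = 7 ∨ n = 21 by
    obtain ⟨c, hc⟩ := h7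
    have : c ∣ 3 := Nat.dvd_of_mul_dvd_mul_left (by norm_num : 0 < 7) (hc ▸ h21)
    rcases (Nat.dvd_prime Nat.prime_three).1 this with rfl | rfl <;> omega) with h | h
  · exact Or.inl h
  refine Or.inr ?_
  obtain ⟨α, hα⟩ : ∃ α : f.range, orderOf α = 7 := by
    haveI : Fact (Nat.Prime 7) := ⟨by norm_num⟩
    exact exists_prime_orderOf_dvd_card' 7 (hn ▸ h ▸ (by norm_num : 7 ∣ 21))
  obtain ⟨γ, hγ⟩ : ∃ γ : f.range, orderOf γ = 3 := by
    haveI : Fact (Nat.Prime 3) := ⟨Nat.prime_three⟩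
    exact exists_prime_orderOf_dvd_card' 3 (hn ▸ h ▸ (by norm_num : 3 ∣ 21))
  have ha : orderOf (α : MulAut (S : Subgroup G)) = 7 := by rw [Subgroup.orderOf_coe, hα]
  have hfix7 : ∀ z : (S : Subgroup G), (α : MulAut (S : Subgroup G)) z = z → z = 1 := by
    obtain ⟨h1, h2, h3⟩ := card_fixed hS8 (by norm_num) ha
    have : Nat.card (fixed (α : MulAut (S : Subgroup G))) = 1 := by
      have := Nat.le_of_dvd (by norm_num) h2
      have := Nat.card_pos (α := fixed (α : MulAut (S : Subgroup G)))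
      unfold Nat.ModEq at h1
      omega
    exact fun z hz => Subgroup.mem_bot.1 ((Subgroup.eq_bot_of_card_eq _ this) ▸ hz)
  have htrans : ∀ z w : (S : Subgroup G), z ≠ 1 → w ≠ 1 →
      ∃ i : ℕ, ((α : MulAut (S : Subgroup G)) ^ i) z = w := by
    intro z w hz hw
    let F : Fin 7 → {v : (S : Subgroup G) // v ≠ 1} := fun i =>
      ⟨((α : MulAut (S : Subgroup G)) ^ (i : ℕ)) z, fun e => hz
        ((map_eq_one_iff _ (MulEquiv.injective _)).1 e)⟩
    have hinj : Function.Injective F := by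
      intro i j hij
      by_contra hne
      have hij' : ((α : MulAut (S : Subgroup G)) ^ (i : ℕ)) z =
          ((α : MulAut (S : Subgroup G)) ^ (j : ℕ)) z := congrArg Subtype.val hij
      let St := MulAction.stabilizer (MulAut (S : Subgroup G)) z
      have hmem : (α : MulAut (S : Subgroup G)) ^ ((i : ℤ) - (j : ℤ)) ∈ St := by
        rw [show ((i : ℤ) - (j : ℤ)) = -(j : ℤ) + (i : ℤ) by ring, zpow_add, zpow_natCast,
          zpow_neg, zpow_natCast, MulAction.mem_stabilizer_iff, mul_smul]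
        exact inv_smul_eq_iff.2 hij'
      have hco : Int.gcd ((i : ℤ) - (j : ℤ)) 7 = 1 := by
        have hb := i.2; have hb' := j.2
        have hne' : (i : ℕ) ≠ j := fun e => hne (Fin.ext e)
        rw [Int.gcd_eq_natAbs]
        refine ((Nat.Prime.coprime_iff_not_dvd (by norm_num : Nat.Prime 7)).2 fun hd => ?_).symm
        have := Nat.le_of_dvd (by omega) hd
        omega
      have hbez := Int.gcd_eq_gcd_ab ((i : ℤ) - (j : ℤ)) 7
      rw [hco] at hbez
      have hαSt : (α : MulAut (S : Subgroup G)) ∈ St := by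
        have e7 : (α : MulAut (S : Subgroup G)) ^ (7 : ℤ) = 1 := by
          rw [show (7 : ℤ) = ((7 : ℕ) : ℤ) by norm_num, zpow_natCast, ← ha, pow_orderOf_eq_one]
        have e : (α : MulAut (S : Subgroup G)) ^ (1 : ℤ) ∈ St := by
          rw [show (1 : ℤ) = ((1 : ℕ) : ℤ) by norm_num, hbez, zpow_add, zpow_mul, zpow_mul, e7,
            one_zpow, mul_one]
          exact St.zpow_mem hmem _
        simpa using e
      exact hz (hfix7 z hαSt)
    haveI := Fintype.ofFinite (S : Subgroup G)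
    have hcard : Fintype.card {v : (S : Subgroup G) // v ≠ 1} = 7 := by
      rw [Fintype.card_subtype_compl, Fintype.card_subtype_eq, ← Nat.card_eq_fintype_card, hS8]
    obtain ⟨i, hi⟩ := ((Fintype.bijective_iff_injective_and_card F).2
      ⟨hinj, by rw [hcard, Fintype.card_fin]⟩).2 ⟨w, hw⟩
    exact ⟨i, congrArg Subtype.val hi⟩
  -- a point `t` and an element of order 3 fixing it
  have hg3 : orderOf (γ : MulAut (S : Subgroup G)) = 3 := by rw [Subgroup.orderOf_coe, hγ]
  have hfix3 : ∀ {a : MulAut (S : Subgroup G)}, orderOf a = 3 → Nat.card (fixed a) = 2 := by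
    intro a ha3
    obtain ⟨h1, h2, h3⟩ := card_fixed hS8 Nat.prime_three ha3
    have := Nat.le_of_dvd (by norm_num) h2
    unfold Nat.ModEq at h1
    have : ∀ c, c ≤ 8 → c ∣ 8 → 8 % 3 = c % 3 → c ≠ 8 → c = 2 := by decide
    exact this _ (Nat.le_of_dvd (by norm_num) h2) h2 h1 h3
  haveI : Nontrivial (fixed (γ : MulAut (S : Subgroup G))) :=
    Finite.one_lt_card_iff_nontrivial.1 (by rw [hfix3 hg3]; norm_num)
  obtain ⟨⟨t', ht'γ⟩, ht'1⟩ := exists_ne (1 : fixed (γ : MulAut (S : Subgroup G)))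
  have ht1 : t' ≠ 1 := fun e => ht'1 (Subtype.ext e)
  have ht : orderOf (t' : G) = 2 := orderOf_eq_prime (hexp t' t'.2) fun e => ht1 (Subtype.ext e)
  obtain ⟨g, hg⟩ := γ.2
  obtain ⟨k, r, hr, hkr⟩ := Nat.exists_eq_pow_mul_and_not_dvd (orderOf_pos (g : G)).ne' 3
    (by norm_num)
  set x := g ^ r with hx
  have hfxeq : f x = (γ : MulAut (S : Subgroup G)) ^ r := by rw [hx, map_pow, hg]
  have hxo : orderOf (f x) = 3 := by
    rw [hfxeq, (Nat.Coprime.orderOf_pow ?_), hg3]
    rw [hg3]
    exact (Nat.Prime.coprime_iff_not_dvd Nat.prime_three).2 hr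
  have hxord : orderOf ((x : N) : G) = 3 ^ k := by
    have hr0 : r ≠ 0 := fun e => hr (e ▸ dvd_zero 3)
    have hdvd : r ∣ orderOf (g : G) := ⟨3 ^ k, by rw [hkr, mul_comm]⟩
    rw [hx, Subgroup.coe_pow, orderOf_pow_of_dvd hr0 hdvd,
      hkr, Nat.mul_div_cancel _ (Nat.pos_of_ne_zero hr0)]
  have hxt : f x t' = t' := by
    rw [hfxeq]
    exact (MulAction.mem_stabilizer_iff).1 (pow_mem (show (γ : MulAut (S : Subgroup G)) ∈
      MulAction.stabilizer (MulAut (S : Subgroup G)) t' from ht'γ) r)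
  have hfixx := hfix3 hxo
  let St : Subgroup f.range := (MulAction.stabilizer (MulAut (S : Subgroup G)) t').subgroupOf f.range
  let β : f.range := ⟨f x, x, rfl⟩
  have hβ : β ∈ St := hxt
  have hSt : St = Subgroup.zpowers β := by
    have hd : Nat.card St ∣ 21 := h ▸ hn ▸ St.card_subgroup_dvd_card
    have h3 : 3 ∣ Nat.card St := by
      rw [← hxo, show f x = (β : MulAut (S : Subgroup G)) from rfl, Subgroup.orderOf_coe]
      exact St.orderOf_dvd_natCard hβ
    have hne : Nat.card St ≠ 21 := fun e => ht1 (hfix7 t' (by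
      have : St = ⊤ := Subgroup.eq_top_of_card_eq _ (by rw [e, ← hn, h])
      exact (show α ∈ St from this ▸ Subgroup.mem_top α)))
    have hc : Nat.card St = 3 := by
      obtain ⟨c, hc⟩ := h3
      have : c ∣ 7 := Nat.dvd_of_mul_dvd_mul_left (by norm_num : 0 < 3) (hc ▸ hd)
      rcases (Nat.dvd_prime (by norm_num : Nat.Prime 7)).1 this with rfl | rfl <;> omega
    refine (Subgroup.eq_of_le_of_card_ge (Subgroup.zpowers_le.2 hβ) ?_).symm
    rw [hc, Nat.card_zpowers, ← Subgroup.orderOf_coe, show (β : MulAut (S : Subgroup G)) = f x from rfl,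
      hxo]
  refine ⟨t', (x : G), ⟨hab, hS8, t'.2, ht, hC _ ht, ?_, x.2, ⟨k, hxord⟩, ?_, ?_, ?_, ?_⟩, ?_⟩
  · exact mul_inv_eq_iff_eq_mul.1 (congrArg Subtype.val hxt)
  · intro hc
    rw [← hker] at hc
    rw [hc, orderOf_one] at hxo
    omega
  · intro s hs hsx
    have hmem : (⟨s, hs⟩ : (S : Subgroup G)) ∈ fixed (f x) := by
      rw [mem_fixed]
      apply Subtype.ext
      rw [hfx]
      exact mul_inv_eq_iff_eq_mul.2 hsx.eq
    by_contra hne
    simp only [not_or] at hne
    have hsub : ({1, t', ⟨s, hs⟩} : Set (S : Subgroup G)) ⊆ fixed (f x) := by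
      rintro z (rfl | rfl | rfl)
      · exact one_mem _
      · exact hxt
      · exact hmem
    have h3 : ({1, t', ⟨s, hs⟩} : Set (S : Subgroup G)).ncard = 3 :=
      Set.ncard_eq_three.2 ⟨_, _, _, Ne.symm ht1, fun e => hne.1 (congrArg Subtype.val e).symm,
        fun e => hne.2 (congrArg Subtype.val e).symm, rfl⟩
    have := Set.ncard_le_ncard hsub (Set.toFinite _)
    rw [h3, ← Nat.card_coe_set_eq] at this
    exact absurd (this.trans_eq hfixx) (by norm_num)
  · rw [← Subgroup.coe_pow, ← hker, map_pow, ← hxo, pow_orderOf_eq_one]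
  · intro m hm hmt
    have hmem : (⟨f ⟨m, hm⟩, ⟨m, hm⟩, rfl⟩ : f.range) ∈ St :=
      Subtype.ext (mul_inv_eq_iff_eq_mul.2 hmt.eq)
    rw [hSt, ← mem_powers_iff_mem_zpowers] at hmem
    obtain ⟨i, hi⟩ := hmem
    refine ⟨i, ?_⟩
    have hi' : f x ^ i = f ⟨m, hm⟩ := by
      have := congrArg Subtype.val hi
      simpa [β] using this
    have := (hker ((x ^ i)⁻¹ * ⟨m, hm⟩)).1 (by rw [map_mul, map_inv, map_pow, hi', inv_mul_cancel])
    simpa using this
  · intro u hu
    obtain ⟨T, hT⟩ := (IsPGroup.of_card (n := 1) (by rw [Nat.card_zpowers, hu, pow_one]) :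
      IsPGroup 2 (Subgroup.zpowers u)).exists_le_sylow
    obtain ⟨c, hc⟩ := MulAction.exists_smul_eq G T S
    have hcu : c * u * c⁻¹ ∈ (S : Subgroup G) := by
      rw [← hc, ← SetLike.mem_coe, Sylow.coe_coe, Sylow.coe_smul]
      exact ⟨u, hT (Subgroup.mem_zpowers u), rfl⟩
    obtain ⟨i, hi⟩ := htrans ⟨_, hcu⟩ t' (fun e => by
      have e' : c * u * c⁻¹ = 1 := congrArg Subtype.val e
      have : u = 1 := by
        calc u = c⁻¹ * (c * u * c⁻¹) * c := by group
          _ = 1 := by rw [e']; group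
      rw [this, orderOf_one] at hu
      omega) ht1
    obtain ⟨g', hg'⟩ := α.2
    refine ⟨((g' ^ i : N) : G) * c, ?_⟩
    rw [← hg', ← map_pow] at hi
    have := congrArg Subtype.val hi
    rw [hfx] at this
    rw [← this]
    group

end Cfsg.Agent.CharTheory.SylowEightAutomizer
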