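import Mathlib
import Cfsg.Agent.Lib.CharTheory.SylowEightAutomizer.Local
import Cfsg.Agent.Lib.CharTheory.DihedralEight
import Cfsg.Agent.Lib.Blocks.EqualDegree.Pair
import Cfsg.Agent.Lib.Blocks.Orthogonality
import Cfsg.Agent.BlockCharsA.RegularPart

/-!
The rows of the character table on the section of `t`, in coordinates given by the three linear
characters of `O⟨x⟩`.
-/

set_option autoImplicit false
set_option linter.style.haveILetI false
set_option linter.unusedSectionVars false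

namespace Cfsg.Agent.CharTheory.SylowEightAutomizer

open Cfsg.Agent.Blocks Cfsg.Agent.Characters
open scoped ComplexConjugate Classical

universe u

/-- A nontrivial irreducible character sums to zero on the cosets of a normal subgroup. -/
theorem sum_coset_eq_zero {H : Type u} [Group H] [Fintype H] (N : Subgroup H) [N.Normal]
    {ξ : H → ℂ} (hξ : Cfsg.IsIrrCharacter H ξ) (hne : ¬ ∀ n ∈ N, ξ n = ξ 1) (g : H) :
    ∑ n : N, ξ (g * n) = 0 := by
  obtain ⟨m, ρ, hρ, rfl⟩ := hξ
  haveI := hρ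
  let f : H → ℂ := fun z => if z ∈ N then 1 else 0
  have hf : Cfsg.IsClassFunction H f := fun a c => by
    have h1 : c * a * c⁻¹ ∈ N ↔ a ∈ N :=
      ⟨fun h => by simpa [mul_assoc] using ‹N.Normal›.conj_mem _ h c⁻¹,
        fun h => ‹N.Normal›.conj_mem a h c⟩
    simp only [f, h1]
  obtain ⟨w, hw⟩ := schur_scalar ρ _ (sum_smul_comm ρ hf)
  have hT : (∑ z : H, f z • ρ z) = ∑ n : N, ρ (n : H) := by
    simp only [f, ite_smul, one_smul, zero_smul, ← Finset.sum_filter]
    exact Finset.sum_subtype _ (fun z => by simp) _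
  rw [hT] at hw
  have hw0 : w = 0 := by
    by_contra hw0
    refine hne fun n hn => rep_char_eq_of_apply_eq_id ?_
    have h1 : ρ n * (∑ k : N, ρ (k : H)) = ∑ k : N, ρ (k : H) := by
      rw [Finset.mul_sum]
      exact Fintype.sum_equiv (Equiv.mulLeft ⟨n, hn⟩) _ _ fun k => by simp [← map_mul]
    rw [hw, show (w • LinearMap.id : Module.End ℂ (Fin m → ℂ)) = w • 1 from rfl, mul_smul_comm,
      mul_one] at h1
    exact smul_right_injective _ hw0 h1
  rw [hw0, zero_smul] at hw
  have : ∑ n : N, ρ.character (g * n) =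
      LinearMap.trace ℂ (Fin m → ℂ) (ρ g * ∑ n : N, ρ (n : H)) := by
    rw [Finset.mul_sum, map_sum]
    exact Finset.sum_congr rfl fun n _ => by rw [Representation.character, map_mul]
  rw [this, hw, mul_zero, map_zero]

variable {G : Type u} [Group G] [Fintype G] {S : Sylow 2 G} {t x : G}

/-- The linear character of `C(t)` of order 3, and the shape of `C(t)`. -/
structure LamData (h : Setting S t x) (lam : Subgroup.centralizer ({t} : Set G) →* ℂˣ)
    (ω : ℂ) : Prop where
  prim : IsPrimitiveRoot ω 3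
  decomp : ∀ c : Subgroup.centralizer ({t} : Set G), ∃ o ∈ core t,
    ∃ s : Subgroup.centralizer ({t} : Set G), (s : G) ∈ (S : Subgroup G) ∧
      ∃ i : ℕ, c = o * s * h.xC ^ i
  cube : h.xC ^ 3 ∈ core t
  lam_x : (lam h.xC : ℂ) = ω
  lam_core : ∀ o ∈ core t, lam o = 1
  lam_S : ∀ s : Subgroup.centralizer ({t} : Set G), (s : G) ∈ (S : Subgroup G) → lam s = 1

theorem Setting.exists_lamData (h : Setting S t x) : ∃ lam ω, LamData h lam ω := by
  obtain ⟨h1, h2, lam, h3, h4, h5⟩ := h.exists_lam (Complex.isPrimitiveRoot_exp 3 (by norm_num))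
  exact ⟨lam, _, Complex.isPrimitiveRoot_exp 3 (by norm_num), h1, h2, h3, h4, h5⟩

/-- `O⟨x⟩`. -/
noncomputable def Setting.Hp (h : Setting S t x) : Subgroup (Subgroup.centralizer ({t} : Set G)) :=
  (Subgroup.zpowers (QuotientGroup.mk' (core t) h.xC)).comap (QuotientGroup.mk' (core t))

/-- The coordinate of a character on the section of `t`. -/
noncomputable def coord (h : Setting S t x) (lam : Subgroup.centralizer ({t} : Set G) →* ℂˣ)
    (χ : G → ℂ) (j : ℕ) : ℂ :=
  (Nat.card h.Hp : ℂ)⁻¹ * ∑ a : h.Hp,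
    χ (t * ((a : Subgroup.centralizer ({t} : Set G)) : G)) *
      (lam (a : Subgroup.centralizer ({t} : Set G)) : ℂ) ^ (2 * j)

namespace LamData

variable {h : Setting S t x} {lam : Subgroup.centralizer ({t} : Set G) →* ℂˣ} {ω : ℂ}
  (L : LamData h lam ω)
include L

theorem mem_Hp {c : Subgroup.centralizer ({t} : Set G)} :
    c ∈ h.Hp ↔ ∃ i : ℕ, c * (h.xC ^ i)⁻¹ ∈ core t := by
  rw [Setting.Hp, Subgroup.mem_comap, ← mem_powers_iff_mem_zpowers, Submonoid.mem_powers_iff]
  refine exists_congr fun i => ?_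
  rw [← QuotientGroup.eq_one_iff]
  change _ ↔ QuotientGroup.mk' (core t) (c * (h.xC ^ i)⁻¹) = 1
  rw [map_mul, map_inv, map_pow, mul_inv_eq_one, eq_comm]

theorem core_le : core t ≤ h.Hp := fun o ho => L.mem_Hp.2 ⟨0, by simpa using ho⟩

theorem xC_mem : h.xC ∈ h.Hp := L.mem_Hp.2 ⟨1, by simp [pow_one]⟩

theorem lam_pow (c : Subgroup.centralizer ({t} : Set G)) : (lam c : ℂ) ^ 3 = 1 := by
  obtain ⟨o, ho, s, hs, i, rfl⟩ := L.decomp c
  rw [map_mul, map_mul, map_pow, L.lam_core o ho, L.lam_S s hs, one_mul, one_mul,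
    Units.val_pow_eq_pow_val, L.lam_x, ← pow_mul, mul_comm, pow_mul, L.prim.pow_eq_one, one_pow]

theorem conj_lam (c : Subgroup.centralizer ({t} : Set G)) :
    conj (lam c : ℂ) = (lam c : ℂ) ^ 2 := by
  rw [← Complex.inv_eq_conj (Complex.norm_eq_one_of_pow_eq_one (L.lam_pow c) (by norm_num))]
  exact (eq_inv_of_mul_eq_one_left (by rw [← pow_succ]; exact L.lam_pow c)).symm

theorem mem_core {a : Subgroup.centralizer ({t} : Set G)} (ha : a ∈ h.Hp) (h1 : (lam a : ℂ) = 1) :
    a ∈ core t := by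
  obtain ⟨i, hi⟩ := L.mem_Hp.1 ha
  have e : (lam a : ℂ) = ω ^ i := by
    have := L.lam_core _ hi
    rw [map_mul, map_inv, map_pow, mul_inv_eq_one] at this
    rw [this, Units.val_pow_eq_pow_val, L.lam_x]
  obtain ⟨k, rfl⟩ := L.prim.dvd_of_pow_eq_one i (e.symm.trans h1)
  have := mul_mem hi (pow_mem L.cube k)
  rwa [← pow_mul, inv_mul_cancel_right] at this

theorem odd_Hp {a : Subgroup.centralizer ({t} : Set G)} (ha : a ∈ h.Hp) : ¬ 2 ∣ orderOf a := by
  have h3 : a ^ 3 ∈ core t := L.mem_core (pow_mem ha 3) (by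
    rw [map_pow, Units.val_pow_eq_pow_val, L.lam_pow])
  intro h2
  have h1 := Setting.orderOf_odd h3
  refine h1 ?_
  have h4 : orderOf a ∣ 3 * orderOf (a ^ 3) :=
    orderOf_dvd_of_pow_eq_one (by rw [pow_mul, pow_orderOf_eq_one])
  exact (Nat.Coprime.dvd_of_dvd_mul_left (by norm_num) (h2.trans h4))

theorem card_Hp : Nat.card h.Hp = 3 * Nat.card (core t) := by
  rw [Setting.Hp, PLocal.Cores.card_comap_eq _ (QuotientGroup.mk'_surjective _), QuotientGroup.ker_mk',
    Nat.card_zpowers, mul_comm]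
  congr 1
  haveI : Fact (Nat.Prime 3) := ⟨Nat.prime_three⟩
  refine orderOf_eq_prime ?_ fun e => ?_
  · rw [← map_pow, QuotientGroup.mk'_apply, QuotientGroup.eq_one_iff]; exact L.cube
  · rw [QuotientGroup.mk'_apply, QuotientGroup.eq_one_iff] at e
    refine L.prim.ne_one (by norm_num) ?_
    rw [← L.lam_x, L.lam_core _ e, Units.val_one]

/-- The product decomposition `C(t) = S · O⟨x⟩`. -/
theorem bijective_prod : Function.Bijective
    (fun p : ↥(S : Subgroup G) × ↥h.Hp =>
      (⟨(p.1 : G), h.sylow_le p.1.2⟩ : Subgroup.centralizer ({t} : Set G)) * p.2) := by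
  constructor
  · rintro ⟨s, a⟩ ⟨s', a'⟩ e
    simp only at e
    set u : Subgroup.centralizer ({t} : Set G) := ⟨(s : G), h.sylow_le s.2⟩
    set u' : Subgroup.centralizer ({t} : Set G) := ⟨(s' : G), h.sylow_le s'.2⟩
    have e1 : u'⁻¹ * u = (a' : Subgroup.centralizer ({t} : Set G)) * (a : Subgroup.centralizer ({t} : Set G))⁻¹ := by
      rw [eq_mul_inv_iff_mul_eq, mul_assoc, e, inv_mul_cancel_left]
    have hS : ((u'⁻¹ * u : Subgroup.centralizer ({t} : Set G)) : G) ∈ (S : Subgroup G) :=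
      mul_mem (inv_mem s'.2) s.2
    have hc : u'⁻¹ * u ∈ core t := L.mem_core (e1 ▸ mul_mem a'.2 (inv_mem a.2))
      (by rw [L.lam_S _ hS, Units.val_one])
    have h1 : u = u' := (inv_mul_eq_one.1 (h.core_sylow hc hS)).symm
    rw [h1] at e
    exact Prod.ext (Subtype.ext (congrArg (fun z : Subgroup.centralizer ({t} : Set G) => (z : G)) h1 :)) (Subtype.ext (mul_left_cancel e))
  · intro c
    obtain ⟨o, ho, s, hs, i, rfl⟩ := L.decomp c
    refine ⟨⟨⟨(s : G), hs⟩, ⟨s⁻¹ * o * s * h.xC ^ i, mul_mem (L.core_le ?_) (pow_mem L.xC_mem i)⟩⟩, ?_⟩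
    · simpa using (inferInstance : (core t).Normal).conj_mem o ho s⁻¹
    · show s * (s⁻¹ * o * s * h.xC ^ i) = _
      group

theorem card_C :
    Nat.card (Subgroup.centralizer ({t} : Set G)) = 24 * Nat.card (core t) := by
  rw [← Nat.card_congr (Equiv.ofBijective _ L.bijective_prod), Nat.card_prod, h.card, L.card_Hp]
  ring

/-- The number of elements of `C(t)` carrying `a ∈ O⟨x⟩` into `O⟨x⟩`. -/
theorem count {a : Subgroup.centralizer ({t} : Set G)} (ha : a ∈ h.Hp) :
    Nat.card {c : Subgroup.centralizer ({t} : Set G) // c * a * c⁻¹ ∈ h.Hp} =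
      if a ∈ core t then 24 * Nat.card (core t) else 6 * Nat.card (core t) := by
  split_ifs with hO
  · rw [← L.card_C]
    exact Nat.card_congr (Equiv.subtypeUnivEquiv fun c =>
      L.core_le ((inferInstance : (core t).Normal).conj_mem a hO c))
  let e := Equiv.ofBijective _ L.bijective_prod
  rw [← Nat.card_congr (Equiv.subtypeEquiv e
    (p := fun p => (p.1 : G) = 1 ∨ (p.1 : G) = t) fun p => ?_)]
  · rw [Nat.card_congr (Equiv.prodSubtypeFstEquivSubtypeProd
      (p := fun s : (S : Subgroup G) => (s : G) = 1 ∨ (s : G) = t)), Nat.card_prod, L.card_Hp,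
      show Nat.card {s : (S : Subgroup G) // (s : G) = 1 ∨ (s : G) = t} = 2 from ?_]
    · ring
    · have : ({s : (S : Subgroup G) | (s : G) = 1 ∨ (s : G) = t} : Set (S : Subgroup G)) =
          {1, ⟨t, h.t_mem⟩} := by
        ext s; simp only [Set.mem_setOf_eq, Set.mem_insert_iff, Set.mem_singleton_iff, Subtype.ext_iff, Subgroup.coe_one]
      show Nat.card ({s : (S : Subgroup G) | (s : G) = 1 ∨ (s : G) = t} : Set (S : Subgroup G)) = 2
      rw [this, Nat.card_coe_set_eq, Set.ncard_pair]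
      intro e
      have := h.t_ord
      have e1 : (1 : G) = t := congrArg Subtype.val e
      rw [← e1] at this
      simp at this
  · obtain ⟨s, b⟩ := p
    set u : Subgroup.centralizer ({t} : Set G) := ⟨(s : G), h.sylow_le s.2⟩ with hu
    show ((s : G) = 1 ∨ (s : G) = t) ↔ u * b * a * (u * b)⁻¹ ∈ h.Hp
    set a' := (b : Subgroup.centralizer ({t} : Set G)) * a * (b : Subgroup.centralizer ({t} : Set G))⁻¹
    have ha' : a' ∈ h.Hp := mul_mem (mul_mem b.2 ha) (inv_mem b.2)
    rw [show u * b * a * (u * b)⁻¹ = u * a' * u⁻¹ by simp only [a']; group]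
    constructor
    · rintro (e1 | e1)
      · rw [show u = 1 from Subtype.ext e1, one_mul, inv_one, mul_one]; exact ha'
      · have : u * a' = a' * u := Subtype.ext (by
          show (u : G) * a' = a' * (u : G)
          rw [show (u : G) = t from e1]
          exact ZStar.Principal.commute_coe t a')
        rw [this, mul_inv_cancel_right]; exact ha'
    · intro hm
      let π := QuotientGroup.mk' (core t)
      have h1 : π u * π a' = π a' * π u := by
        have := L.mem_core (mul_mem hm (inv_mem ha')) (by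
          simp only [map_mul, map_inv, Units.val_mul, Units.val_inv_eq_inv_val,
            L.lam_S u s.2, Units.val_one]
          field_simp)
        rw [← QuotientGroup.eq_one_iff] at this
        change π (u * a' * u⁻¹ * a'⁻¹) = 1 at this
        rw [map_mul, map_mul, map_mul, map_inv, map_inv, mul_inv_eq_one, mul_inv_eq_iff_eq_mul] at this
        exact this
      have hc : Commute (π u) (π h.xC) := by
        obtain ⟨i, hi⟩ := L.mem_Hp.1 ha'
        have hπi : π a' = π h.xC ^ i := by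
          have : π (a' * (h.xC ^ i)⁻¹) = 1 := (QuotientGroup.eq_one_iff _).2 hi
          rwa [map_mul, map_inv, map_pow, mul_inv_eq_one] at this
        have h3 : π h.xC ^ 3 = 1 := by
          rw [← map_pow]; exact (QuotientGroup.eq_one_iff _).2 L.cube
        have hi3 : ¬ 3 ∣ i := fun ⟨k, hk⟩ => hO (by
          have : π a' = 1 := by rw [hπi, hk, pow_mul, h3, one_pow]
          have := (inferInstance : (core t).Normal).conj_mem _ ((QuotientGroup.eq_one_iff _).1 this)
            (b : Subgroup.centralizer ({t} : Set G))⁻¹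
          simpa [a', mul_assoc] using this)
        have hsq : i * i % 3 = 1 := by
          rw [Nat.mul_mod]
          have : i % 3 = 1 ∨ i % 3 = 2 := by omega
          rcases this with h | h <;> rw [h]
        have e : π h.xC = (π a') ^ i := by
          rw [hπi, ← pow_mul, ← Nat.mod_add_div (i * i) 3, hsq, pow_add, pow_one, pow_mul, h3,
            one_pow, mul_one]
        rw [e]
        exact (show Commute (π u) (π a') from h1).pow_right i
      have h2 : u * h.xC * u⁻¹ * h.xC⁻¹ ∈ core t := by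
        rw [← QuotientGroup.eq_one_iff]
        change π (u * h.xC * u⁻¹ * h.xC⁻¹) = 1
        rw [map_mul, map_mul, map_mul, map_inv, map_inv, hc.eq, mul_inv_cancel_right, mul_inv_cancel]
      have h3 : ((u * h.xC * u⁻¹ * h.xC⁻¹ : Subgroup.centralizer ({t} : Set G)) : G) ∈
          (S : Subgroup G) := by
        show (s : G) * x * (s : G)⁻¹ * x⁻¹ ∈ (S : Subgroup G)
        rw [show (s : G) * x * (s : G)⁻¹ * x⁻¹ = s * (x * (s : G)⁻¹ * x⁻¹) by group]
        exact mul_mem s.2 ((Subgroup.mem_normalizer_iff.1 h.x_norm _).1 (inv_mem s.2))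
      have h4 : (s : G) * x * (s : G)⁻¹ * x⁻¹ = 1 := congrArg Subtype.val (h.core_sylow h2 h3)
      exact h.x_fix s s.2 (mul_inv_eq_iff_eq_mul.1 (mul_inv_eq_one.1 h4)).symm

theorem sum_lam (m : ℕ) :
    ∑ a : h.Hp, (lam (a : Subgroup.centralizer ({t} : Set G)) : ℂ) ^ m =
      if 3 ∣ m then (Nat.card h.Hp : ℂ) else 0 := by
  split_ifs with hm
  · obtain ⟨k, rfl⟩ := hm
    simp [pow_mul, L.lam_pow]
  · have h1 : ω ^ m * ∑ a : h.Hp, (lam (a : Subgroup.centralizer ({t} : Set G)) : ℂ) ^ m =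
        ∑ a : h.Hp, (lam (a : Subgroup.centralizer ({t} : Set G)) : ℂ) ^ m := by
      rw [Finset.mul_sum]
      exact Fintype.sum_equiv (Equiv.mulLeft ⟨h.xC, L.xC_mem⟩) _ _ fun a => by
        simp [mul_pow, L.lam_x]
    have : ω ^ m ≠ 1 := fun e => hm (L.prim.dvd_of_pow_eq_one m e)
    have h2 : (ω ^ m - 1) * ∑ a : h.Hp,
        (lam (a : Subgroup.centralizer ({t} : Set G)) : ℂ) ^ m = 0 := by
      rw [sub_mul, h1, one_mul, sub_self]
    exact (mul_eq_zero.1 h2).resolve_left (sub_ne_zero.2 this)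

theorem sum_count (m : ℕ) :
    ∑ a : h.Hp, (Nat.card {c : Subgroup.centralizer ({t} : Set G) //
      c * (a : Subgroup.centralizer ({t} : Set G)) * c⁻¹ ∈ h.Hp} : ℂ) *
        (lam (a : Subgroup.centralizer ({t} : Set G)) : ℂ) ^ m =
      (Nat.card h.Hp : ℂ) ^ 2 * if 3 ∣ m then 4 else 2 := by
  have e : ∀ a : h.Hp, (Nat.card {c : Subgroup.centralizer ({t} : Set G) //
      c * (a : Subgroup.centralizer ({t} : Set G)) * c⁻¹ ∈ h.Hp} : ℂ) *
        (lam (a : Subgroup.centralizer ({t} : Set G)) : ℂ) ^ m =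
      6 * (Nat.card (core t) : ℂ) * (lam (a : Subgroup.centralizer ({t} : Set G)) : ℂ) ^ m +
        if (a : Subgroup.centralizer ({t} : Set G)) ∈ core t then 18 * (Nat.card (core t) : ℂ) else 0 := by
    intro a
    rw [L.count a.2]
    split_ifs with hO
    · rw [L.lam_core _ hO]; push_cast; ring
    · push_cast; ring
  have hcard : (Finset.univ.filter fun a : h.Hp =>
      (a : Subgroup.centralizer ({t} : Set G)) ∈ core t).card = Nat.card (core t) := by
    rw [← Fintype.card_subtype, ← Nat.card_eq_fintype_card]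
    exact Nat.card_congr ⟨fun a => ⟨a.1, a.2⟩, fun o => ⟨⟨o, L.core_le o.2⟩, o.2⟩,
      fun _ => rfl, fun _ => rfl⟩
  rw [Finset.sum_congr rfl fun a _ => e a, Finset.sum_add_distrib, ← Finset.mul_sum, L.sum_lam,
    ← Finset.sum_filter, Finset.sum_const, hcard, nsmul_eq_mul, L.card_Hp]
  push_cast
  split_ifs <;> ring

/-- Conjugation between elements of the section of `t`. -/
theorem conj_section {g : G} {a b : Subgroup.centralizer ({t} : Set G)} (ha : a ∈ h.Hp)
    (hb : b ∈ h.Hp) (e : g * (t * (a : G)) * g⁻¹ = t * (b : G)) :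
    ∃ hg : g ∈ Subgroup.centralizer ({t} : Set G), (⟨g, hg⟩ : Subgroup.centralizer ({t} : Set G)) * a * ⟨g, hg⟩⁻¹ = b := by
  have hk : ∃ k : ℕ, orderOf t = 2 ^ k := ⟨1, by rw [h.t_ord, pow_one]⟩
  have h1 : Cfsg.IsPPart 2 (t * (b : G)) (g * t * g⁻¹) := by
    refine ⟨g * a * g⁻¹, by rw [← e]; group,
      (ZStar.Principal.commute_coe t a).map (MulAut.conj g).toMonoidHom, ?_, ?_⟩
    · obtain ⟨k, hk⟩ := hk
      exact ⟨k, by rw [BlockCharsA.RegularPart.orderOf_conj', hk]⟩
    · rw [BlockCharsA.RegularPart.orderOf_conj', Subgroup.orderOf_coe]; exact L.odd_Hp ha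
  have h2 : Cfsg.IsPPart 2 (t * (b : G)) t :=
    ⟨b, rfl, ZStar.Principal.commute_coe t b, hk, by rw [Subgroup.orderOf_coe]; exact L.odd_Hp hb⟩
  have h3 := ppart_unique Nat.prime_two h1 h2
  refine ⟨Subgroup.mem_centralizer_singleton_iff.2 (mul_inv_eq_iff_eq_mul.1 h3), Subtype.ext ?_⟩
  show g * a * g⁻¹ = b
  rw [show g * (t * (a : G)) * g⁻¹ = g * t * g⁻¹ * (g * a * g⁻¹) by group, h3] at e
  exact mul_left_cancel e

theorem card_conj_eq {a b : Subgroup.centralizer ({t} : Set G)} (ha : a ∈ h.Hp) (hb : b ∈ h.Hp) :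
    Nat.card {g : G // g * (t * (a : G)) * g⁻¹ = t * (b : G)} =
      Nat.card {c : Subgroup.centralizer ({t} : Set G) // c * a * c⁻¹ = b} := by
  refine Nat.card_congr
    { toFun := fun g => ⟨⟨g.1, (L.conj_section ha hb g.2).choose⟩,
        (L.conj_section ha hb g.2).choose_spec⟩
      invFun := fun c => ⟨(c.1 : G), ?_⟩
      left_inv := fun _ => rfl
      right_inv := fun _ => rfl }
  have e := congrArg (fun z : Subgroup.centralizer ({t} : Set G) => (z : G)) c.2
  simp only [Subgroup.coe_mul, Subgroup.coe_inv] at e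
  rw [show (c.1 : G) * (t * (a : G)) * (c.1 : G)⁻¹ =
    ((c.1 : G) * t * (c.1 : G)⁻¹) * ((c.1 : G) * a * (c.1 : G)⁻¹) by group, e,
    (mul_inv_eq_iff_eq_mul.2 (ZStar.Principal.commute_coe t c.1).symm.eq)]

variable [Fintype (Cfsg.IrrCharacter G)]

/-- The coordinates are rational integers. -/
theorem exists_int {χ : G → ℂ} (hχ : Cfsg.IsCharacter G χ) (j : ℕ) :
    ∃ z : ℤ, coord h lam χ j = (z : ℂ) := by
  let T := Subgroup.zpowers t
  let φ : T × h.Hp →* G := MonoidHom.noncommCoprod T.subtype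
    ((Subgroup.centralizer ({t} : Set G)).subtype.comp h.Hp.subtype)
    (fun u a => by
      obtain ⟨k, hk⟩ := Subgroup.mem_zpowers_iff.1 u.2
      show Commute (u : G) ((a : Subgroup.centralizer ({t} : Set G)) : G)
      rw [← hk]
      exact (ZStar.Principal.commute_coe t a.1).zpow_left k)
  have hcard : Nat.card T = 2 := (Nat.card_zpowers t).trans h.t_ord
  let t' : T := ⟨t, Subgroup.mem_zpowers t⟩
  have hne : (1 : T) ≠ t' := fun h0 => by
    have h1 : (1 : G) = t := congrArg Subtype.val h0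
    have := h.t_ord
    rw [← h1, orderOf_one] at this
    omega
  have huniv : (Finset.univ : Finset T) = {1, t'} :=
    (Finset.eq_univ_of_card _ (by
      rw [Finset.card_pair hne, ← Nat.card_eq_fintype_card, hcard])).symm
  have hgen : ∀ w : T, w ∈ Subgroup.zpowers t' := fun ⟨w, hw⟩ => by
    obtain ⟨i, rfl⟩ := Subgroup.mem_zpowers_iff.1 hw
    exact Subgroup.mem_zpowers_iff.2 ⟨i, rfl⟩
  have hm1 : orderOf (-1 : ℂˣ) ∣ orderOf t' :=
    orderOf_dvd_of_pow_eq_one (by rw [Subgroup.orderOf_mk, h.t_ord]; exact neg_one_sq)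
  let sgn : T →* ℂˣ := monoidHomOfForallMemZpowers hgen hm1
  let lj : h.Hp →* ℂˣ := (lam ^ j).comp h.Hp.subtype
  obtain ⟨p, hp⟩ := classInner_char_nat (isCharacter_comp φ hχ)
    (isCharacter_linear (lj.comp (MonoidHom.snd T h.Hp)))
  obtain ⟨q, hq⟩ := classInner_char_nat (isCharacter_comp φ hχ)
    (isCharacter_linear ((sgn.comp (MonoidHom.fst T h.Hp)) * lj.comp (MonoidHom.snd T h.Hp)))
  refine ⟨(p : ℤ) - q, ?_⟩
  rw [classInner_def, Nat.card_prod, hcard, Fintype.sum_prod_type, huniv, Finset.sum_pair hne] at hp hq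
  have hs : (sgn t' : ℂ) = -1 := by
    simp only [sgn, monoidHomOfForallMemZpowers_apply_gen]
    simp
  simp only [MonoidHom.comp_apply, MonoidHom.coe_snd, MonoidHom.coe_fst, MonoidHom.mul_apply,
    Units.val_mul, map_one, Units.val_one, one_mul, hs, map_mul, map_neg, neg_mul, mul_neg,
    Finset.sum_neg_distrib] at hp hq
  rw [coord]
  push_cast
  rw [← hp, ← hq]
  have e : ∀ a : h.Hp, conj (lj a : ℂ) =
      (lam (a : Subgroup.centralizer ({t} : Set G)) : ℂ) ^ (2 * j) := fun a => by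
    simp only [lj, MonoidHom.comp_apply, MonoidHom.pow_apply, Units.val_pow_eq_pow_val,
      Subgroup.subtype_apply, map_pow, L.conj_lam, ← pow_mul]
  have e' : ∀ a : h.Hp, φ (t', a) = t * ((a : Subgroup.centralizer ({t} : Set G)) : G) :=
    fun a => rfl
  simp only [e, Function.comp_apply, e']
  push_cast
  ring

/-- The Gram matrix of the coordinates. -/
theorem gram {i j : ℕ} (hi : i < 3) (hj : j < 3) :
    ∑ χ : Cfsg.IrrCharacter G, coord h lam (χ : G → ℂ) i * coord h lam (χ : G → ℂ) j =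
      if i = j then 4 else 2 := by
  have hreal : ∀ χ : Cfsg.IrrCharacter G, coord h lam (χ : G → ℂ) j =
      (Nat.card h.Hp : ℂ)⁻¹ * ∑ b : h.Hp,
        conj ((χ : G → ℂ) (t * ((b : Subgroup.centralizer ({t} : Set G)) : G))) *
          (lam (b : Subgroup.centralizer ({t} : Set G)) : ℂ) ^ j := by
    intro χ
    obtain ⟨z, hz⟩ := L.exists_int (irr_isCharacter χ) j
    rw [hz, ← map_intCast (starRingEnd ℂ) z, ← hz, coord, map_mul, map_inv₀, map_natCast, map_sum]
    refine congrArg _ (Finset.sum_congr rfl fun b _ => ?_)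
    rw [map_mul, map_pow, L.conj_lam, ← pow_mul]
    congr 1
    rw [show 2 * (2 * j) = 3 * j + j by ring, pow_add, pow_mul, L.lam_pow, one_pow, one_mul]
  calc ∑ χ : Cfsg.IrrCharacter G, coord h lam (χ : G → ℂ) i * coord h lam (χ : G → ℂ) j
      = (Nat.card h.Hp : ℂ)⁻¹ * (Nat.card h.Hp : ℂ)⁻¹ * ∑ a : h.Hp, ∑ b : h.Hp,
          (Nat.card {c : Subgroup.centralizer ({t} : Set G) //
              c * (a : Subgroup.centralizer ({t} : Set G)) * c⁻¹ = (b : Subgroup.centralizer ({t} : Set G))} : ℂ) *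
            ((lam (a : Subgroup.centralizer ({t} : Set G)) : ℂ) ^ (2 * i) *
              (lam (b : Subgroup.centralizer ({t} : Set G)) : ℂ) ^ j) := by
        rw [Finset.sum_congr rfl fun χ _ => by rw [hreal χ]]
        simp only [coord, Finset.mul_sum, Finset.sum_mul]
        rw [Finset.sum_comm]
        refine Eq.trans (Finset.sum_congr rfl fun a _ => Finset.sum_comm) ?_
        rw [Finset.sum_comm]
        refine Finset.sum_congr rfl fun a _ => Finset.sum_congr rfl fun b _ => ?_
        rw [← L.card_conj_eq a.2 b.2, ← Blocks.EqualDegree.sum_irr_mul_conj_card,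
          Finset.sum_mul, Finset.mul_sum]
        exact Finset.sum_congr rfl fun χ _ => by ring
    _ = (Nat.card h.Hp : ℂ)⁻¹ * (Nat.card h.Hp : ℂ)⁻¹ * ∑ a : h.Hp,
          (Nat.card {c : Subgroup.centralizer ({t} : Set G) //
              c * (a : Subgroup.centralizer ({t} : Set G)) * c⁻¹ ∈ h.Hp} : ℂ) *
            (lam (a : Subgroup.centralizer ({t} : Set G)) : ℂ) ^ (2 * i + j) := by
        refine congrArg _ (Finset.sum_congr rfl fun a _ => ?_)
        have hab : ∀ b : h.Hp, (Nat.card {c : Subgroup.centralizer ({t} : Set G) //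
              c * (a : Subgroup.centralizer ({t} : Set G)) * c⁻¹ = (b : Subgroup.centralizer ({t} : Set G))} : ℂ) *
            ((lam (a : Subgroup.centralizer ({t} : Set G)) : ℂ) ^ (2 * i) *
              (lam (b : Subgroup.centralizer ({t} : Set G)) : ℂ) ^ j) =
            (Nat.card {c : Subgroup.centralizer ({t} : Set G) //
              c * (a : Subgroup.centralizer ({t} : Set G)) * c⁻¹ = (b : Subgroup.centralizer ({t} : Set G))} : ℂ) *
            (lam (a : Subgroup.centralizer ({t} : Set G)) : ℂ) ^ (2 * i + j) := by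
          intro b
          by_cases hb : ∃ c : Subgroup.centralizer ({t} : Set G),
              c * (a : Subgroup.centralizer ({t} : Set G)) * c⁻¹ = (b : Subgroup.centralizer ({t} : Set G))
          · obtain ⟨c, hc⟩ := hb
            rw [pow_add, ← hc, map_mul, map_mul, map_inv, mul_right_comm, mul_inv_cancel, one_mul]
          · haveI : IsEmpty {c : Subgroup.centralizer ({t} : Set G) //
              c * (a : Subgroup.centralizer ({t} : Set G)) * c⁻¹ = (b : Subgroup.centralizer ({t} : Set G))} :=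
              ⟨fun c => hb ⟨c.1, c.2⟩⟩
            simp [Nat.card_of_isEmpty]
        rw [Finset.sum_congr rfl fun b _ => hab b, ← Finset.sum_mul, ← Nat.cast_sum]
        congr 2
        rw [← Nat.card_sigma]
        exact Nat.card_congr
          { toFun := fun p => ⟨p.2.1, p.2.2.symm ▸ p.1.2⟩
            invFun := fun c => ⟨⟨_, c.2⟩, c.1, rfl⟩
            left_inv := fun p => Sigma.subtype_ext (Subtype.ext p.2.2) rfl
            right_inv := fun _ => rfl }
    _ = _ := by
        rw [L.sum_count]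
        have h0 : (Nat.card h.Hp : ℂ) ≠ 0 := natCard_ne_zero
        have hiff : 3 ∣ 2 * i + j ↔ i = j := by omega
        simp only [hiff]
        field_simp

theorem sum_degree (j : ℕ) :
    ∑ χ : Cfsg.IrrCharacter G, (χ : G → ℂ) 1 * coord h lam (χ : G → ℂ) j = 0 := by
  simp only [coord, Finset.mul_sum]
  rw [Finset.sum_comm]
  refine Finset.sum_eq_zero fun a _ => ?_
  have h0 : ∑ χ : Cfsg.IrrCharacter G, (χ : G → ℂ) (t * ((a : Subgroup.centralizer ({t} : Set G)) : G)) *
      conj ((χ : G → ℂ) 1) = 0 := by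
    rw [Blocks.EqualDegree.sum_irr_mul_conj_card, Nat.cast_eq_zero, Nat.card_eq_zero]
    refine Or.inl ⟨fun g => ?_⟩
    have hg : t * ((a : Subgroup.centralizer ({t} : Set G)) : G) = 1 := by
      have := g.2
      rwa [mul_inv_eq_one, mul_eq_left] at this
    have hinv : ((a : Subgroup.centralizer ({t} : Set G)) : G) = t⁻¹ := eq_inv_of_mul_eq_one_right hg
    have h2 := L.odd_Hp a.2
    rw [← Subgroup.orderOf_coe, hinv, orderOf_inv, h.t_ord] at h2
    exact h2 dvd_rfl
  have hc : ∀ χ : Cfsg.IrrCharacter G, conj ((χ : G → ℂ) 1) = (χ : G → ℂ) 1 := fun χ => by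
    rw [← char_inv (irr_isCharacter χ), inv_one]
  simp only [hc] at h0
  calc ∑ χ : Cfsg.IrrCharacter G, (χ : G → ℂ) 1 * ((Nat.card h.Hp : ℂ)⁻¹ *
        ((χ : G → ℂ) (t * ((a : Subgroup.centralizer ({t} : Set G)) : G)) *
          (lam (a : Subgroup.centralizer ({t} : Set G)) : ℂ) ^ (2 * j)))
      = (Nat.card h.Hp : ℂ)⁻¹ * (lam (a : Subgroup.centralizer ({t} : Set G)) : ℂ) ^ (2 * j) *
          ∑ χ : Cfsg.IrrCharacter G, (χ : G → ℂ) (t * ((a : Subgroup.centralizer ({t} : Set G)) : G)) *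
            (χ : G → ℂ) 1 := by
        rw [Finset.mul_sum]; exact Finset.sum_congr rfl fun χ _ => by ring
    _ = 0 := by rw [h0, mul_zero]

theorem coord_one (j : ℕ) : coord h lam (fun _ : G => (1 : ℂ)) j = if 3 ∣ j then 1 else 0 := by
  simp only [coord, one_mul]
  rw [L.sum_lam]
  simp only [show (3 ∣ 2 * j) ↔ 3 ∣ j from ⟨fun h => by omega, fun h => h.mul_left 2⟩]
  split_ifs
  · exact inv_mul_cancel₀ natCard_ne_zero
  · exact mul_zero _

variable {M : Ideal Cfsg.AlgInt}

/-- Outside the principal block the coordinates vanish. -/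
theorem coord_eq_zero (hM : Cfsg.IsPModular 2 M) {χ : Cfsg.IrrCharacter G}
    (hχ : χ ∉ Cfsg.principalBlock M G) (j : ℕ) : coord h lam (χ : G → ℂ) j = 0 := by
  let g : Subgroup.centralizer ({t} : Set G) → ℂ := fun y =>
    (Nat.card {c : Subgroup.centralizer ({t} : Set G) // c * y * c⁻¹ ∈ h.Hp} : ℂ) * (lam y : ℂ) ^ j
  have key : ∀ f : Subgroup.centralizer ({t} : Set G) → ℂ,
      Cfsg.IsClassFunction (Subgroup.centralizer ({t} : Set G)) f →
      regSum 2 f g = (Nat.card (Subgroup.centralizer ({t} : Set G)) : ℂ) *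
        ∑ a : h.Hp, f a * (lam (a : Subgroup.centralizer ({t} : Set G)) : ℂ) ^ (2 * j) := by
    intro f hf
    rw [regSum_eq_sum]
    have e : ∀ y : Subgroup.centralizer ({t} : Set G),
        (if ¬ 2 ∣ orderOf y then f y * conj (g y) else 0) =
          ∑ c : Subgroup.centralizer ({t} : Set G),
            if c * y * c⁻¹ ∈ h.Hp then f y * (lam y : ℂ) ^ (2 * j) else 0 := by
      intro y
      have hg : conj (g y) = ((Finset.univ.filter fun c : Subgroup.centralizer ({t} : Set G) =>
          c * y * c⁻¹ ∈ h.Hp).card : ℂ) * (lam y : ℂ) ^ (2 * j) := by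
        simp only [g, map_mul, map_natCast, map_pow, L.conj_lam, ← pow_mul]
        rw [Nat.card_eq_fintype_card, Fintype.card_subtype]
      rw [← Finset.sum_filter, Finset.sum_const, nsmul_eq_mul, hg]
      split_ifs with hy
      · rw [Finset.card_eq_zero.2 (Finset.filter_eq_empty_iff.2 fun c _ hc =>
          L.odd_Hp hc (by rwa [BlockCharsA.RegularPart.orderOf_conj'])), Nat.cast_zero, zero_mul]
      · ring
    rw [Finset.sum_congr rfl fun y _ => e y, Finset.sum_comm]
    have hc : ∀ c : Subgroup.centralizer ({t} : Set G), (∑ y : Subgroup.centralizer ({t} : Set G),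
        if c * y * c⁻¹ ∈ h.Hp then f y * (lam y : ℂ) ^ (2 * j) else 0) =
        ∑ a : h.Hp, f a * (lam (a : Subgroup.centralizer ({t} : Set G)) : ℂ) ^ (2 * j) := by
      intro c
      rw [Fintype.sum_equiv (MulAut.conj c).toEquiv
        (fun y => if c * y * c⁻¹ ∈ h.Hp then f y * (lam y : ℂ) ^ (2 * j) else 0)
        (fun y => if y ∈ h.Hp then f y * (lam y : ℂ) ^ (2 * j) else 0) fun y => ?_,
        ← Finset.sum_filter]
      · exact Finset.sum_subtype _ (fun y => by simp) _
      · simp only [MulEquiv.toEquiv_eq_coe, MulEquiv.coe_toEquiv, MulAut.conj_apply, hf y c]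
        rw [show lam (c * y * c⁻¹) = lam y by rw [map_mul, map_mul, map_inv, mul_right_comm,
          mul_inv_cancel, one_mul]]
    rw [Finset.sum_congr rfl fun c _ => hc c, Finset.sum_const, Finset.card_univ, nsmul_eq_mul,
      Nat.card_eq_fintype_card]
  have hk : ∃ k : ℕ, orderOf t = 2 ^ k := ⟨1, by rw [h.t_ord, pow_one]⟩
  have h0 := ZStar.Principal.regSum_shift_eq_zero hM hk hχ g fun ξ hξ => by
    rw [key _ (irr_isClassFunction ξ)]
    have hne : ¬ ∀ n ∈ core t, (ξ : Subgroup.centralizer ({t} : Set G) → ℂ) n =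
        (ξ : Subgroup.centralizer ({t} : Set G) → ℂ) 1 := fun hn => hξ (h.mem_principal hM ξ hn)
    have hz : (Nat.card (core t) : ℂ) * ∑ a : h.Hp, (ξ : Subgroup.centralizer ({t} : Set G) → ℂ) a *
        (lam (a : Subgroup.centralizer ({t} : Set G)) : ℂ) ^ (2 * j) = 0 := by
      rw [Nat.card_eq_fintype_card, ← Finset.card_univ, ← nsmul_eq_mul, ← Finset.sum_const]
      have e : ∀ n : core t, ∑ a : h.Hp, (ξ : Subgroup.centralizer ({t} : Set G) → ℂ) a *
          (lam (a : Subgroup.centralizer ({t} : Set G)) : ℂ) ^ (2 * j) =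
          ∑ a : h.Hp, (ξ : Subgroup.centralizer ({t} : Set G) → ℂ) ((a : Subgroup.centralizer ({t} : Set G)) * n) *
          (lam (a : Subgroup.centralizer ({t} : Set G)) : ℂ) ^ (2 * j) := fun n => by
        refine (Fintype.sum_equiv (Equiv.mulRight ⟨(n : Subgroup.centralizer ({t} : Set G)), L.core_le n.2⟩) _ _ fun a => ?_).symm
        simp [L.lam_core _ n.2]
      rw [Finset.sum_congr rfl fun n _ => e n, Finset.sum_comm]
      refine Finset.sum_eq_zero fun a _ => ?_
      rw [← Finset.sum_mul, sum_coset_eq_zero (core t) ξ.2 hne, zero_mul]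
    rw [(mul_eq_zero.1 hz).resolve_left natCard_ne_zero, mul_zero]
  rw [key _ (ZStar.Principal.isClassFunction_shift t (irr_isClassFunction χ)), mul_eq_zero] at h0
  rw [coord]
  exact mul_eq_zero_of_right _ (h0.resolve_left natCard_ne_zero)

/-- In the principal block the coordinates add up to the value at `t`. -/
theorem sum_coord (hM : Cfsg.IsPModular 2 M) {χ : Cfsg.IrrCharacter G}
    (hχ : χ ∈ Cfsg.principalBlock M G) :
    coord h lam (χ : G → ℂ) 0 + coord h lam (χ : G → ℂ) 1 + coord h lam (χ : G → ℂ) 2 =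
      (χ : G → ℂ) t := by
  have hk : ∃ k : ℕ, orderOf t = 2 ^ k := ⟨1, by rw [h.t_ord, pow_one]⟩
  simp only [coord]
  rw [← mul_add, ← mul_add, ← Finset.sum_add_distrib, ← Finset.sum_add_distrib]
  have e : ∀ a : h.Hp,
      (χ : G → ℂ) (t * ((a : Subgroup.centralizer ({t} : Set G)) : G)) + (χ : G → ℂ) (t * ((a : Subgroup.centralizer ({t} : Set G)) : G)) *
        (lam (a : Subgroup.centralizer ({t} : Set G)) : ℂ) ^ (2 * 1) +
        (χ : G → ℂ) (t * ((a : Subgroup.centralizer ({t} : Set G)) : G)) *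
        (lam (a : Subgroup.centralizer ({t} : Set G)) : ℂ) ^ (2 * 2) =
      if (a : Subgroup.centralizer ({t} : Set G)) ∈ core t then 3 * (χ : G → ℂ) t else 0 := by
    intro a
    split_ifs with hO
    · rw [L.lam_core _ hO, ZStar.Principal.value_mul_of_mem hM hk hχ h.odd_core hO]
      simp; ring
    · have h3 := L.lam_pow (a : Subgroup.centralizer ({t} : Set G))
      have hne : (lam (a : Subgroup.centralizer ({t} : Set G)) : ℂ) - 1 ≠ 0 :=
        sub_ne_zero.2 fun e => hO (L.mem_core a.2 e)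
      have hz : (lam (a : Subgroup.centralizer ({t} : Set G)) : ℂ) ^ 2 +
          (lam (a : Subgroup.centralizer ({t} : Set G)) : ℂ) + 1 = 0 :=
        (mul_eq_zero.1 (show ((lam (a : Subgroup.centralizer ({t} : Set G)) : ℂ) - 1) * _ = 0 by
          linear_combination h3)).resolve_left hne
      linear_combination (χ : G → ℂ) (t * ((a : Subgroup.centralizer ({t} : Set G)) : G)) * hz +
        (χ : G → ℂ) (t * ((a : Subgroup.centralizer ({t} : Set G)) : G)) *
          (lam (a : Subgroup.centralizer ({t} : Set G)) : ℂ) * h3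
  simp only [mul_zero, pow_zero, mul_one] at e ⊢
  rw [Finset.sum_congr rfl fun a _ => e a, ← Finset.sum_filter, Finset.sum_const, nsmul_eq_mul,
    show (Finset.univ.filter fun a : h.Hp =>
      (a : Subgroup.centralizer ({t} : Set G)) ∈ core t).card = Nat.card (core t) by
      rw [← Fintype.card_subtype, ← Nat.card_eq_fintype_card]
      exact Nat.card_congr ⟨fun a => ⟨a.1, a.2⟩, fun o => ⟨⟨o, L.core_le o.2⟩, o.2⟩,
        fun _ => rfl, fun _ => rfl⟩, L.card_Hp]
  have : (Nat.card (core t) : ℂ) ≠ 0 := natCard_ne_zero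
  push_cast
  field_simp

/-- Products of two involutions meet the section of `t` only in `t O`. -/
theorem lam_eq_one {u v g : G} (hu : orderOf u = 2) (hv : orderOf v = 2) {a : Subgroup.centralizer ({t} : Set G)}
    (ha : a ∈ h.Hp) (e : g * (u * v) * g⁻¹ = (t * (a : G))⁻¹) : (lam a : ℂ) = 1 := by
  set p := g * u * g⁻¹ with hp
  set q := g * v * g⁻¹ with hq
  have hp2 : p * p = 1 := by
    rw [hp, show g * u * g⁻¹ * (g * u * g⁻¹) = g * (u * u) * g⁻¹ by group, ← pow_two, ← hu, pow_orderOf_eq_one]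
    group
  have hq2 : q * q = 1 := by
    rw [hq, show g * v * g⁻¹ * (g * v * g⁻¹) = g * (v * v) * g⁻¹ by group, ← pow_two, ← hv, pow_orderOf_eq_one]
    group
  have hpi : p⁻¹ = p := inv_eq_of_mul_eq_one_right hp2
  have hqi : q⁻¹ = q := inv_eq_of_mul_eq_one_right hq2
  have hpq : p * q = (t * (a : G))⁻¹ := by rw [← e, hp, hq]; group
  have hkey : p * (t * (a : G)) * p⁻¹ = t * ((a⁻¹ : Subgroup.centralizer ({t} : Set G)) : G) := by
    have hta : t * (a : G) = q * p := by
      rw [← inv_inv (t * (a : G)), ← hpq, mul_inv_rev, hqi, hpi]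
    rw [hta, hpi, show p * (q * p) * p = p * q * (p * p) by simp only [mul_assoc], hp2, mul_one,
      hpq, mul_inv_rev, Subgroup.coe_inv]
    have ht : t⁻¹ = t := inv_eq_of_mul_eq_one_right (by rw [← pow_two, ← h.t_ord, pow_orderOf_eq_one])
    rw [ht]
    exact ((ZStar.Principal.commute_coe t a).inv_right).eq.symm
  obtain ⟨hc, hc'⟩ := L.conj_section ha (inv_mem ha) hkey
  have := congrArg lam hc'
  rw [map_mul, map_mul, map_inv, map_inv, mul_right_comm, mul_inv_cancel, one_mul] at this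
  have h2 : (lam a : ℂ) * (lam a : ℂ) = 1 := by
    rw [← Units.val_mul]
    nth_rewrite 1 [this]
    simp
  have h3 := L.lam_pow a
  calc (lam a : ℂ) = (lam a : ℂ) * ((lam a : ℂ) * (lam a : ℂ)) := by rw [h2, mul_one]
    _ = 1 := by rw [← h3]; ring

/-- The column of products of two involutions does not separate the coordinates. -/
theorem sum_inv_eq (hclass : ∀ u : G, orderOf u = 2 → ∃ g : G, g * u * g⁻¹ = t) (j : ℕ) :
    ∑ χ : Cfsg.IrrCharacter G, coord h lam (χ : G → ℂ) j * (χ : G → ℂ) t ^ 2 / (χ : G → ℂ) 1 =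
    ∑ χ : Cfsg.IrrCharacter G, coord h lam (χ : G → ℂ) 0 * (χ : G → ℂ) t ^ 2 / (χ : G → ℂ) 1 := by
  let I : Finset G := Finset.univ.filter fun u => orderOf u = 2
  have hI : (I.card : ℂ) ≠ 0 := Nat.cast_ne_zero.2
    (Finset.card_ne_zero.2 ⟨t, Finset.mem_filter.2 ⟨Finset.mem_univ _, h.t_ord⟩⟩)
  have hmul : ∀ χ : Cfsg.IrrCharacter G, (χ : G → ℂ) t ^ 2 / (χ : G → ℂ) 1 =
      ((I.card : ℂ) ^ 2)⁻¹ * ∑ u ∈ I, ∑ v ∈ I, (χ : G → ℂ) (u * v) := by
    intro χ
    have := DihedralEight.sum_mul_involutions χ.2 I t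
      (fun u hu a => Finset.mem_filter.2 ⟨Finset.mem_univ _, by
        rw [BlockCharsA.RegularPart.orderOf_conj']; exact (Finset.mem_filter.1 hu).2⟩)
      (fun u hu => by
        obtain ⟨g, hg⟩ := hclass u (Finset.mem_filter.1 hu).2
        rw [← hg, irr_isClassFunction χ])
    have h1 := irr_one_ne_zero χ.2
    field_simp
    rw [mul_comm ((χ : G → ℂ) 1) (∑ u ∈ I, ∑ v ∈ I, (χ : G → ℂ) (u * v))] at this
    linear_combination this.symm
  have hswap : ∀ k : ℕ, ∑ χ : Cfsg.IrrCharacter G,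
      coord h lam (χ : G → ℂ) k * (χ : G → ℂ) t ^ 2 / (χ : G → ℂ) 1 =
      ((I.card : ℂ) ^ 2)⁻¹ * (Nat.card h.Hp : ℂ)⁻¹ * ∑ u ∈ I, ∑ v ∈ I, ∑ a : h.Hp,
        (lam (a : Subgroup.centralizer ({t} : Set G)) : ℂ) ^ (2 * k) *
          ∑ χ : Cfsg.IrrCharacter G, (χ : G → ℂ) (u * v) *
            conj ((χ : G → ℂ) (t * ((a : Subgroup.centralizer ({t} : Set G)) : G))⁻¹) := by
    intro k
    have e : ∀ χ : Cfsg.IrrCharacter G,
        coord h lam (χ : G → ℂ) k * (χ : G → ℂ) t ^ 2 / (χ : G → ℂ) 1 =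
        ((I.card : ℂ) ^ 2)⁻¹ * (Nat.card h.Hp : ℂ)⁻¹ * ∑ u ∈ I, ∑ v ∈ I, ∑ a : h.Hp,
          (lam (a : Subgroup.centralizer ({t} : Set G)) : ℂ) ^ (2 * k) * ((χ : G → ℂ) (u * v) *
            conj ((χ : G → ℂ) (t * ((a : Subgroup.centralizer ({t} : Set G)) : G))⁻¹)) := by
      intro χ
      have hstep : ∀ u v : G, ∑ a : h.Hp, (lam (a : Subgroup.centralizer ({t} : Set G)) : ℂ) ^ (2 * k) *
          ((χ : G → ℂ) (u * v) *
            conj ((χ : G → ℂ) (t * ((a : Subgroup.centralizer ({t} : Set G)) : G))⁻¹)) =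
          (χ : G → ℂ) (u * v) * ∑ a : h.Hp,
            (χ : G → ℂ) (t * ((a : Subgroup.centralizer ({t} : Set G)) : G)) *
              (lam (a : Subgroup.centralizer ({t} : Set G)) : ℂ) ^ (2 * k) := fun u v => by
        rw [Finset.mul_sum]
        refine Finset.sum_congr rfl fun a _ => ?_
        rw [char_inv (irr_isCharacter χ), Complex.conj_conj]
        ring
      simp only [hstep, ← Finset.sum_mul]
      rw [mul_div_assoc, hmul, coord]
      ring
    rw [Finset.sum_congr rfl fun χ _ => e χ, ← Finset.mul_sum, Finset.sum_comm]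
    refine congrArg _ (Finset.sum_congr rfl fun u _ => ?_)
    rw [Finset.sum_comm]
    refine Finset.sum_congr rfl fun v _ => ?_
    rw [Finset.sum_comm]
    exact Finset.sum_congr rfl fun a _ => by rw [Finset.mul_sum]
  rw [hswap, hswap]
  refine congrArg _ (Finset.sum_congr rfl fun u hu => Finset.sum_congr rfl fun v hv =>
    Finset.sum_congr rfl fun a _ => ?_)
  rw [Blocks.EqualDegree.sum_irr_mul_conj_card]
  by_cases hne : Nonempty {g : G // g * (u * v) * g⁻¹ =
      (t * ((a : Subgroup.centralizer ({t} : Set G)) : G))⁻¹}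
  · obtain ⟨g, hg⟩ := hne
    rw [L.lam_eq_one (Finset.mem_filter.1 hu).2 (Finset.mem_filter.1 hv).2 a.2 hg, one_pow, one_pow]
  · haveI := not_nonempty_iff.1 hne
    rw [Nat.card_of_isEmpty, Nat.cast_zero, mul_zero, mul_zero]

omit [Fintype (Cfsg.IrrCharacter G)] in
/-- Restriction to the Sylow subgroup. -/
theorem restrict_sylow (hclass : ∀ u : G, orderOf u = 2 → ∃ g : G, g * u * g⁻¹ = t)
    (hexp : ∀ s ∈ (S : Subgroup G), s ^ 2 = 1) {χ : G → ℂ} (hχ : Cfsg.IsCharacter G χ) :
    ∃ n : ℕ, χ 1 + 7 * χ t = 8 * (n : ℂ) := by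
  haveI : Fact (Nat.Prime 2) := ⟨Nat.prime_two⟩
  obtain ⟨n, hn⟩ := classInner_char_nat (isCharacter_restrict (S : Subgroup G) hχ) isCharacter_one
  refine ⟨n, ?_⟩
  rw [classInner_def, h.card] at hn
  simp only [map_one, mul_one] at hn
  rw [← Finset.add_sum_erase _ _ (Finset.mem_univ (1 : (S : Subgroup G))), Subgroup.coe_one,
    Finset.sum_congr rfl (g := fun _ => χ t) fun s hs => ?_, Finset.sum_const,
    Finset.card_erase_of_mem (Finset.mem_univ _), Finset.card_univ, ← Nat.card_eq_fintype_card,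
    h.card, nsmul_eq_mul] at hn
  · rw [← hn]; push_cast; ring
  · have hs1 : (s : G) ≠ 1 := fun e => (Finset.mem_erase.1 hs).1 (Subtype.ext e)
    obtain ⟨g, hg⟩ := hclass s (orderOf_eq_prime (hexp s s.2) hs1)
    rw [← hg, char_isClassFunction hχ]

end LamData

end Cfsg.Agent.CharTheory.SylowEightAutomizer
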