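import Mathlib

/-!
The arithmetic of the rows on the section of an involution with centralizer `O (2 × A₄)`:
there is no such table when the group is perfect and has one class of involutions.
-/

set_option autoImplicit false

namespace Cfsg.Agent.CharTheory.SylowEightAutomizer

open Finset

/-- Sum of the coordinates of a row. -/
def tau (v : Fin 3 → ℤ) : ℤ := v 0 + v 1 + v 2

/-- The sign of a row. -/
def sgn (v : Fin 3 → ℤ) : ℤ := if tau v < 0 then -1 else 1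

/-- Membership in the full row. -/
def fT (v : Fin 3 → ℤ) : ℤ := |v 0 * v 1 * v 2|

/-- Membership in the row vanishing exactly at `0`. -/
def fP0 (v : Fin 3 → ℤ) : ℤ := |v 1 * v 2| - fT v

/-- Membership in the row vanishing exactly at `1`. -/
def fP1 (v : Fin 3 → ℤ) : ℤ := |v 0 * v 2| - fT v

/-- Membership in the row vanishing exactly at `2`. -/
def fP2 (v : Fin 3 → ℤ) : ℤ := |v 0 * v 1| - fT v

/-- Membership in the row supported at `0`. -/
def fA0 (v : Fin 3 → ℤ) : ℤ := |v 0| - fP1 v - fP2 v - fT v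

/-- Membership in the row supported at `1`. -/
def fA1 (v : Fin 3 → ℤ) : ℤ := |v 1| - fP0 v - fP2 v - fT v

/-- The facts that hold for every admissible row. -/
def Good (v : Fin 3 → ℤ) : Prop :=
  (fT v = 0 ∨ fT v = 1) ∧ (fP0 v = 0 ∨ fP0 v = 1) ∧ (fP1 v = 0 ∨ fP1 v = 1) ∧
  (fP2 v = 0 ∨ fP2 v = 1) ∧ (fA0 v = 0 ∨ fA0 v = 1) ∧ (fA1 v = 0 ∨ fA1 v = 1) ∧
  v 1 * v 2 = fP0 v + fT v ∧ v 0 * v 2 = fP1 v + fT v ∧ v 0 * v 1 = fP2 v + fT v ∧
  v 0 * v 0 = fA0 v + fP1 v + fP2 v + fT v ∧ v 1 * v 1 = fA1 v + fP0 v + fP2 v + fT v ∧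
  v 0 - v 1 = sgn v * (fA0 v - fA1 v + fP1 v - fP0 v) ∧
  (v 0 - v 1) * tau v ^ 2 = sgn v * (fA0 v - fA1 v + 4 * fP1 v - 4 * fP0 v) ∧
  (fP0 v = 1 → tau v = 2 * sgn v) ∧ (fP1 v = 1 → tau v = 2 * sgn v)

instance (v : Fin 3 → ℤ) : Decidable (Good v) := by unfold Good; infer_instance

theorem good_small : ∀ a b c : Fin 5,
    4 * (((a : ℕ) : ℤ) - 2) ^ 2 + 4 * (((b : ℕ) : ℤ) - 2) ^ 2 + 4 * (((c : ℕ) : ℤ) - 2) ^ 2 -
      ((((a : ℕ) : ℤ) - 2) + (((b : ℕ) : ℤ) - 2) + (((c : ℕ) : ℤ) - 2)) ^ 2 ≤ 7 →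
    Good ![((a : ℕ) : ℤ) - 2, ((b : ℕ) : ℤ) - 2, ((c : ℕ) : ℤ) - 2] := by
  decide +kernel

theorem good_of_le (v : Fin 3 → ℤ)
    (h : 4 * (v 0 ^ 2 + v 1 ^ 2 + v 2 ^ 2) - tau v ^ 2 ≤ 7) : Good v := by
  have hb : ∀ i, -2 ≤ v i ∧ v i ≤ 2 := by
    have h1 : v 0 ^ 2 + v 1 ^ 2 + v 2 ^ 2 ≤ 7 := by
      have := sq_nonneg (v 0 - v 1); have := sq_nonneg (v 0 - v 2)
      have := sq_nonneg (v 1 - v 2)
      unfold tau at h
      nlinarith
    intro i
    have h2 : v i ^ 2 ≤ 7 := by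
      have := sq_nonneg (v 0); have := sq_nonneg (v 1); have := sq_nonneg (v 2)
      fin_cases i <;> simp <;> linarith
    constructor <;> nlinarith
  obtain ⟨a, ha⟩ : ∃ a : Fin 5, ((a : ℕ) : ℤ) = v 0 + 2 :=
    ⟨⟨(v 0 + 2).toNat, by have := hb 0; omega⟩, by simp; have := hb 0; omega⟩
  obtain ⟨b, hb'⟩ : ∃ b : Fin 5, ((b : ℕ) : ℤ) = v 1 + 2 :=
    ⟨⟨(v 1 + 2).toNat, by have := hb 1; omega⟩, by simp; have := hb 1; omega⟩
  obtain ⟨c, hc⟩ : ∃ c : Fin 5, ((c : ℕ) : ℤ) = v 2 + 2 :=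
    ⟨⟨(v 2 + 2).toNat, by have := hb 2; omega⟩, by simp; have := hb 2; omega⟩
  have := good_small a b c (by rw [ha, hb', hc]; unfold tau at h; linarith)
  rw [ha, hb', hc] at this
  convert this using 1
  funext i
  fin_cases i <;> simp

variable {ι : Type*} [Fintype ι] (d : ι → Fin 3 → ℤ) (deg : ι → ℤ)

/-- Bessel's inequality for the span of the rows. -/
theorem row_bound (hdeg : ∀ χ, 0 < deg χ)
    (hgram : ∀ i j, ∑ χ, d χ i * d χ j = if i = j then 4 else 2)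
    (hdeg0 : ∀ j, ∑ χ, deg χ * d χ j = 0) (χ0 : ι) : Good (d χ0) := by
  classical
  refine good_of_le _ ?_
  set a := tau (d χ0) with ha
  set Q := 4 * (d χ0 0 ^ 2 + d χ0 1 ^ 2 + d χ0 2 ^ 2) - a ^ 2 with hQ
  let c : Fin 3 → ℤ := fun j => 4 * d χ0 j - a
  let V : ι → ℤ := fun χ => c 0 * d χ 0 + c 1 * d χ 1 + c 2 * d χ 2
  have hV0 : V χ0 = Q := by simp only [V, c, hQ, ha, tau]; ring
  have hVV : ∑ χ, V χ ^ 2 = 8 * Q := by
    have e : ∀ χ, V χ ^ 2 = c 0 ^ 2 * (d χ 0 * d χ 0) + c 1 ^ 2 * (d χ 1 * d χ 1) +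
        c 2 ^ 2 * (d χ 2 * d χ 2) + 2 * c 0 * c 1 * (d χ 0 * d χ 1) +
        2 * c 0 * c 2 * (d χ 0 * d χ 2) + 2 * c 1 * c 2 * (d χ 1 * d χ 2) := fun χ => by
      simp only [V]; ring
    simp only [e, sum_add_distrib, ← mul_sum, show ∑ χ, d χ 0 * d χ 0 = 4 from hgram 0 0,
      show ∑ χ, d χ 1 * d χ 1 = 4 from hgram 1 1, show ∑ χ, d χ 2 * d χ 2 = 4 from hgram 2 2,
      show ∑ χ, d χ 0 * d χ 1 = 2 from hgram 0 1, show ∑ χ, d χ 0 * d χ 2 = 2 from hgram 0 2,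
      show ∑ χ, d χ 1 * d χ 2 = 2 from hgram 1 2]
    simp only [c, hQ, ha, tau]
    ring
  have hVd : ∑ χ, deg χ * V χ = 0 := by
    have e : ∀ χ, deg χ * V χ = c 0 * (deg χ * d χ 0) + c 1 * (deg χ * d χ 1) +
        c 2 * (deg χ * d χ 2) := fun χ => by simp only [V]; ring
    simp only [e, sum_add_distrib, ← mul_sum, hdeg0]
    ring
  have hle : Q ^ 2 ≤ 8 * Q := by
    have := single_le_sum (f := fun χ => V χ ^ 2) (fun χ _ => sq_nonneg (V χ)) (mem_univ χ0)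
    rw [hV0] at this
    exact this.trans_eq hVV
  by_contra hlt
  have h8 : Q = 8 := by nlinarith
  have hzero : ∀ χ, χ ≠ χ0 → V χ = 0 := fun χ hχ => by
    have h2 := sum_le_sum_of_subset_of_nonneg (subset_univ ({χ0, χ} : Finset ι))
      (fun i _ _ => sq_nonneg (V i))
    rw [sum_pair (Ne.symm hχ), hVV, hV0, h8] at h2
    nlinarith [sq_nonneg (V χ)]
  rw [sum_eq_single χ0 (fun χ _ hχ => by rw [hzero χ hχ, mul_zero])
    (fun h => absurd (mem_univ _) h), hV0, h8] at hVd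
  linarith [hdeg χ0]

/-- The signed degree. -/
def sdeg (χ : ι) : ℤ := sgn (d χ) * deg χ

omit [Fintype ι] in
theorem sgn_sq (v : Fin 3 → ℤ) : sgn v * sgn v = 1 := by
  unfold sgn; split_ifs <;> norm_num

omit [Fintype ι] in
theorem degree_arith {x y0 y1 : ℚ} (hx : x ≠ 0) (hy0 : y0 ≠ 0) (hy1 : y1 ≠ 0) (hx1 : x ≠ 1)
    (h1 : 1 + y1 = x + y0) (h2 : 1 + 4 / y1 = 1 / x + 4 / y0) :
    x * (y0 - 4) = y0 * (1 - y0) := by
  field_simp at h2
  have e : (x - 1) * (x * (y0 - 4) - y0 * (1 - y0)) = 0 := by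
    have : y1 = x + y0 - 1 := by linarith
    subst this
    linear_combination h2
  rcases mul_eq_zero.1 e with h | h
  · exact absurd (by linarith) hx1
  · linarith

/-- There is no table. -/
theorem no_table (e : ι) (hdeg : ∀ χ, 0 < deg χ) (hlin : ∀ χ, deg χ = 1 → χ = e)
    (he : d e = ![1, 0, 0]) (hedeg : deg e = 1)
    (hgram : ∀ i j, ∑ χ, d χ i * d χ j = if i = j then 4 else 2)
    (hdeg0 : ∀ j, ∑ χ, deg χ * d χ j = 0)
    (hinv : ∑ χ, (((d χ 0 - d χ 1) * tau (d χ) ^ 2 : ℤ) : ℚ) / (deg χ : ℚ) = 0)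
    (hres : ∀ χ, d χ ≠ 0 → 0 ≤ deg χ + 7 * tau (d χ) ∧ 8 ∣ deg χ + 7 * tau (d χ)) : False := by
  classical
  have hg := row_bound d deg hdeg hgram hdeg0
  let δ : ι → ℤ := sdeg d deg
  have hδne : ∀ χ, δ χ ≠ 0 := fun χ => by
    have := hdeg χ
    simp only [δ, sdeg, sgn]; split_ifs <;> omega
  have hδone : ∀ χ, δ χ = 1 ∨ δ χ = -1 → χ = e := fun χ h => hlin χ (by
    have := hdeg χ
    simp only [δ, sdeg, sgn] at h; split_ifs at h <;> omega)
  -- the six classes of rows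
  let cT := univ.filter fun χ => fT (d χ) = 1
  let cP0 := univ.filter fun χ => fP0 (d χ) = 1
  let cP1 := univ.filter fun χ => fP1 (d χ) = 1
  let cP2 := univ.filter fun χ => fP2 (d χ) = 1
  let cA0 := univ.filter fun χ => fA0 (d χ) = 1
  let cA1 := univ.filter fun χ => fA1 (d χ) = 1
  have hsum : ∀ (f : ι → ℤ), (∀ χ, f χ = 0 ∨ f χ = 1) →
      ∑ χ, f χ = ((univ.filter fun χ => f χ = 1).card : ℤ) := fun f hf => by
    rw [card_eq_sum_ones, sum_filter, Nat.cast_sum]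
    refine sum_congr rfl fun χ _ => ?_
    rcases hf χ with h | h <;> simp [h]
  have nT := hsum (fun χ => fT (d χ)) fun χ => (hg χ).1
  have nP0 := hsum (fun χ => fP0 (d χ)) fun χ => (hg χ).2.1
  have nP1 := hsum (fun χ => fP1 (d χ)) fun χ => (hg χ).2.2.1
  have nP2 := hsum (fun χ => fP2 (d χ)) fun χ => (hg χ).2.2.2.1
  have nA0 := hsum (fun χ => fA0 (d χ)) fun χ => (hg χ).2.2.2.2.1
  have nA1 := hsum (fun χ => fA1 (d χ)) fun χ => (hg χ).2.2.2.2.2.1
  have g12 := hgram 1 2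
  have g02 := hgram 0 2
  have g01 := hgram 0 1
  have g00 := hgram 0 0
  have g11 := hgram 1 1
  rw [sum_congr rfl fun χ _ => (hg χ).2.2.2.2.2.2.1, sum_add_distrib, nP0, nT,
    if_neg (by decide)] at g12
  rw [sum_congr rfl fun χ _ => (hg χ).2.2.2.2.2.2.2.1, sum_add_distrib, nP1, nT,
    if_neg (by decide)] at g02
  rw [sum_congr rfl fun χ _ => (hg χ).2.2.2.2.2.2.2.2.1, sum_add_distrib, nP2, nT,
    if_neg (by decide)] at g01
  rw [sum_congr rfl fun χ _ => (hg χ).2.2.2.2.2.2.2.2.2.1, sum_add_distrib, sum_add_distrib,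
    sum_add_distrib, nA0, nP1, nP2, nT, if_pos rfl] at g00
  rw [sum_congr rfl fun χ _ => (hg χ).2.2.2.2.2.2.2.2.2.2.1, sum_add_distrib, sum_add_distrib,
    sum_add_distrib, nA1, nP0, nP2, nT, if_pos rfl] at g11
  change (cP0.card : ℤ) + cT.card = 2 at g12
  change (cP1.card : ℤ) + cT.card = 2 at g02
  change (cP2.card : ℤ) + cT.card = 2 at g01
  change (cA0.card : ℤ) + cP1.card + cP2.card + cT.card = 4 at g00
  change (cA1.card : ℤ) + cP0.card + cP2.card + cT.card = 4 at g11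
  have heA : e ∈ cA0 := by
    simp only [cA0, mem_filter, mem_univ, true_and, he]
    decide
  have hpos : 0 < cA0.card := card_pos.2 ⟨e, heA⟩
  -- the two linear equations
  have hf : ∀ (w : ι → ℤ) (f : ι → ℚ), (∀ χ, w χ = 0 ∨ w χ = 1) →
      ∑ χ, (w χ : ℚ) * f χ = ∑ χ ∈ univ.filter (fun χ => w χ = 1), f χ := fun w f hw => by
    rw [sum_filter]
    refine sum_congr rfl fun χ _ => ?_
    rcases hw χ with h | h <;> simp [h]
  have eq1 : ∑ χ ∈ cA0, (δ χ : ℚ) - ∑ χ ∈ cA1, (δ χ : ℚ) + ∑ χ ∈ cP1, (δ χ : ℚ) -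
      ∑ χ ∈ cP0, (δ χ : ℚ) = 0 := by
    have h01 : ∑ χ, (deg χ * d χ 0 - deg χ * d χ 1) = 0 := by
      rw [sum_sub_distrib, hdeg0, hdeg0, sub_zero]
    have h01' : ∑ χ, ((fA0 (d χ) : ℚ) * δ χ - (fA1 (d χ) : ℚ) * δ χ + (fP1 (d χ) : ℚ) * δ χ -
        (fP0 (d χ) : ℚ) * δ χ) = 0 := by
      rw [← Int.cast_zero (R := ℚ), ← h01, Int.cast_sum]
      refine sum_congr rfl fun χ _ => ?_
      rw [← mul_sub, (hg χ).2.2.2.2.2.2.2.2.2.2.2.1]
      simp only [δ, sdeg]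
      push_cast
      ring
    rw [sum_sub_distrib, sum_add_distrib, sum_sub_distrib, hf _ _ fun χ => (hg χ).2.2.2.2.1,
      hf _ _ fun χ => (hg χ).2.2.2.2.2.1, hf _ _ fun χ => (hg χ).2.2.1,
      hf _ _ fun χ => (hg χ).2.1] at h01'
    exact h01'
  have eq2 : ∑ χ ∈ cA0, 1 / (δ χ : ℚ) - ∑ χ ∈ cA1, 1 / (δ χ : ℚ) +
      4 * ∑ χ ∈ cP1, 1 / (δ χ : ℚ) - 4 * ∑ χ ∈ cP0, 1 / (δ χ : ℚ) = 0 := by
    have h01' : ∑ χ, ((fA0 (d χ) : ℚ) * (1 / δ χ) - (fA1 (d χ) : ℚ) * (1 / δ χ) +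
        4 * ((fP1 (d χ) : ℚ) * (1 / δ χ)) - 4 * ((fP0 (d χ) : ℚ) * (1 / δ χ))) = 0 := by
      rw [← hinv]
      refine sum_congr rfl fun χ _ => ?_
      rw [(hg χ).2.2.2.2.2.2.2.2.2.2.2.2.1]
      simp only [δ, sdeg]
      have hd : (deg χ : ℚ) ≠ 0 := by exact_mod_cast (hdeg χ).ne'
      unfold sgn
      split_ifs <;> push_cast <;> field_simp <;> ring
    rw [sum_sub_distrib, sum_add_distrib, sum_sub_distrib, ← mul_sum, ← mul_sum,
      hf _ _ fun χ => (hg χ).2.2.2.2.1, hf _ _ fun χ => (hg χ).2.2.2.2.2.1,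
      hf _ _ fun χ => (hg χ).2.2.1, hf _ _ fun χ => (hg χ).2.1] at h01'
    exact h01'
  have hδe : δ e = 1 := by simp [δ, sdeg, he, hedeg, sgn, tau]
  have hA1e : ∀ χ ∈ cA1, χ ≠ e := fun χ hχ h => by
    simp only [cA1, mem_filter, mem_univ, true_and, h, he] at hχ
    exact absurd hχ (by decide)
  have hA1one : ∀ χ ∈ cA1, (δ χ : ℚ) ≠ 1 := fun χ hχ h =>
    hA1e χ hχ (hδone χ (Or.inl (by exact_mod_cast h)))
  have hne : ∀ χ, (δ χ : ℚ) ≠ 0 := fun χ => by exact_mod_cast hδne χ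
  rcases (show cT.card = 1 ∨ cT.card = 2 by omega) with hT | hT
  · obtain ⟨u, hu⟩ := card_eq_one.1 (show cA0.card = 1 by omega)
    obtain ⟨a1, ha1⟩ := card_eq_one.1 (show cA1.card = 1 by omega)
    obtain ⟨p0, hp0⟩ := card_eq_one.1 (show cP0.card = 1 by omega)
    obtain ⟨p1, hp1⟩ := card_eq_one.1 (show cP1.card = 1 by omega)
    obtain rfl : e = u := by simpa [hu] using heA
    rw [hu, ha1, hp0, hp1] at eq1 eq2
    simp only [sum_singleton, hδe, Int.cast_one] at eq1 eq2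
    have hx := degree_arith (hne a1) (hne p0) (hne p1) (hA1one a1 (by simp [ha1]))
      (by linarith) (by field_simp at eq2 ⊢; linarith)
    have hx' : δ a1 * (δ p0 - 4) = δ p0 * (1 - δ p0) := by exact_mod_cast hx
    have key : ∀ p, fP0 (d p) = 1 ∨ fP1 (d p) = 1 →
        8 ∣ δ p + 14 ∧ (δ p < 0 → 14 ≤ -δ p) := by
      intro p hp
      have ht : tau (d p) = 2 * sgn (d p) := by
        rcases hp with h | h
        · exact (hg p).2.2.2.2.2.2.2.2.2.2.2.2.2.1 h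
        · exact (hg p).2.2.2.2.2.2.2.2.2.2.2.2.2.2 h
      have hs : sgn (d p) = 1 ∨ sgn (d p) = -1 := by unfold sgn; split_ifs <;> simp
      obtain ⟨h1, h2⟩ := hres p fun h0 => by
        rcases hs with hs | hs <;> rw [hs, h0] at ht <;> simp [tau] at ht
      have := hdeg p
      rcases hs with hs | hs <;> simp only [δ, sdeg, hs, ht] at * <;> constructor <;> omega
    obtain ⟨h0, -⟩ := key p0 (Or.inl (by
      have : p0 ∈ cP0 := by simp [hp0]
      simpa [cP0] using this))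
    obtain ⟨-, h1⟩ := key p1 (Or.inr (by
      have : p1 ∈ cP1 := by simp [hp1]
      simpa [cP1] using this))
    set u := 4 - δ p0 with hu'
    have hu2 : δ a1 * u = u ^ 2 - 7 * u + 12 := by
      rw [show δ p0 = 4 - u by omega] at hx'; linarith
    have hdvd : u ∣ 12 := ⟨δ a1 - u + 7, by linarith⟩
    have hu8 : (8 : ℤ) ∣ u - 18 := by omega
    have hul := Int.le_of_dvd (by norm_num) hdvd
    have huge := Int.le_of_dvd (by norm_num) (neg_dvd.2 hdvd)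
    have hu0 : u ≠ 0 := fun h => by rw [h] at hdvd; norm_num at hdvd
    rcases (show u = 2 ∨ u = -6 ∨ u = 10 by omega) with h | h | h
    · rw [h] at hu2
      exact hA1one a1 (by simp [ha1]) (by exact_mod_cast (show δ a1 = 1 by omega))
    · rw [h] at hu2
      have e15 : δ a1 = -15 := by omega
      have e10 : δ p0 = 10 := by omega
      rw [e15, e10] at eq1
      have e6 : δ p1 = -6 := by
        have : (δ p1 : ℚ) = ((-6 : ℤ) : ℚ) := by push_cast at eq1 ⊢; linarith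
        exact_mod_cast this
      have := h1 (by omega)
      omega
    · rw [h] at hdvd; norm_num at hdvd
  · obtain ⟨u, v, huv, hu⟩ := card_eq_two.1 (show cA0.card = 2 by omega)
    obtain ⟨x, y, hxy, hx⟩ := card_eq_two.1 (show cA1.card = 2 by omega)
    have hp0 := card_eq_zero.1 (show cP0.card = 0 by omega)
    have hp1 := card_eq_zero.1 (show cP1.card = 0 by omega)
    obtain ⟨w, hw, hwe⟩ : ∃ w, cA0 = {e, w} ∧ w ≠ e := by
      rcases (show e = u ∨ e = v by simpa [hu] using heA) with h | h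
      · exact ⟨v, by rw [h, hu], by rw [h]; exact huv.symm⟩
      · exact ⟨u, by rw [h, hu, pair_comm], by rw [h]; exact huv⟩
    rw [hw, hx, hp0, hp1] at eq1 eq2
    simp only [sum_pair hwe.symm, sum_pair hxy, sum_empty, hδe, Int.cast_one, add_zero, sub_zero,
      mul_zero] at eq1 eq2
    have hw1 : (δ w : ℚ) ≠ -1 := fun h => hwe (hδone w (Or.inr (by exact_mod_cast h)))
    have := hne w; have := hne x; have := hne y
    field_simp at eq2
    have e0 : (δ x : ℚ) + δ y = 1 + δ w := by linarith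
    have e1 : ((δ x : ℚ) * δ y - δ w) * (1 + δ w) = 0 := by
      linear_combination eq2 + (δ w : ℚ) * e0
    rcases mul_eq_zero.1 e1 with h | h
    · have : ((δ x : ℚ) - 1) * (δ y - 1) = 0 := by linear_combination h - e0
      rcases mul_eq_zero.1 this with h | h
      · exact hA1one x (by simp [hx]) (by linarith)
      · exact hA1one y (by simp [hx]) (by linarith)
    · exact hw1 (by linarith)

end Cfsg.Agent.CharTheory.SylowEightAutomizer
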