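import Mathlib
import Cfsg.Agent.Lib.CharTheory.SylowEightAutomizer.Automizer
import Cfsg.Agent.Lib.CharTheory.SylowEightAutomizer.Columns
import Cfsg.Agent.Lib.CharTheory.SylowEightAutomizer.Rows
import Cfsg.Agent.BlockCharsA.DefectZeroVanish

/-!
An elementary abelian Sylow `2`-subgroup of order 8 with solvable involution centralizers in a perfect
group has automizer of order 7.
-/

set_option autoImplicit false
set_option linter.style.haveILetI false
set_option linter.unusedSectionVars false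

namespace Cfsg.Agent.CharTheory.SylowEightAutomizer

open Cfsg.Agent.Characters
open scoped ComplexConjugate

universe u

variable {G : Type u} [Group G] [Finite G]

theorem eq_trivial_of_degree_one (hperf : commutator G = ⊤) {χ : Cfsg.IrrCharacter G}
    (h1 : (χ : G → ℂ) 1 = 1) : χ = trivIrr G := by
  refine Subtype.ext (funext fun g => ?_)
  have hk := Abelianization.commutator_subset_ker
    (linearOfDegreeOne (irr_isCharacter χ) h1) (hperf ▸ Subgroup.mem_top g)
  rw [MonoidHom.mem_ker] at hk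
  show (χ : G → ℂ) g = 1
  rw [← linearOfDegreeOne_apply (irr_isCharacter χ) h1 g, hk, Units.val_one]

theorem no_setting {S : Sylow 2 G} {t x : G} (h : Setting S t x) (hperf : commutator G = ⊤)
    (hexp : ∀ s ∈ (S : Subgroup G), s ^ 2 = 1)
    (hclass : ∀ u : G, orderOf u = 2 → ∃ g : G, g * u * g⁻¹ = t) : False := by
  classical
  haveI := Fintype.ofFinite G
  haveI := Fintype.ofFinite (Cfsg.IrrCharacter G)
  obtain ⟨lam, ω, L⟩ := h.exists_lamData
  obtain ⟨M, hM⟩ := BlockCharsA.DefectZeroVanish.exists_modular Nat.prime_two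
  choose z hz using fun (χ : Cfsg.IrrCharacter G) (j : Fin 3) => L.exists_int (irr_isCharacter χ) j
  choose deg hdeg using fun χ : Cfsg.IrrCharacter G => irr_one_pos χ.2
  let dg : Cfsg.IrrCharacter G → ℤ := fun χ => (deg χ : ℤ)
  have hdg : ∀ χ : Cfsg.IrrCharacter G, (dg χ : ℂ) = (χ : G → ℂ) 1 := fun χ => by
    simp [dg, (hdeg χ).2]
  have hmem : ∀ χ, z χ ≠ 0 → χ ∈ Cfsg.principalBlock M G := by
    intro χ hne
    by_contra hχ
    refine hne (funext fun j => ?_)
    have := (hz χ j).symm.trans (L.coord_eq_zero hM hχ j)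
    exact_mod_cast this
  have htau : ∀ χ, z χ ≠ 0 → (tau (z χ) : ℂ) = (χ : G → ℂ) t := by
    intro χ hne
    rw [← L.sum_coord hM (hmem χ hne), tau]
    push_cast
    rw [← hz, ← hz, ← hz]
    rfl
  refine no_table z dg (trivIrr G) (fun χ => by have := (hdeg χ).1; simp [dg]; omega)
    (fun χ h1 => eq_trivial_of_degree_one hperf (by rw [← hdg, h1, Int.cast_one])) ?_ ?_ ?_ ?_ ?_ ?_
  · funext j
    have := (hz (trivIrr G) j).symm.trans (L.coord_one j)
    fin_cases j <;> simp at this ⊢ <;> exact_mod_cast this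
  · have := hdg (trivIrr G)
    rw [show ((trivIrr G : Cfsg.IrrCharacter G) : G → ℂ) 1 = 1 from rfl] at this
    exact_mod_cast this
  · intro i j
    have e : ((∑ χ, z χ i * z χ j : ℤ) : ℂ) = if (i : ℕ) = j then 4 else 2 := by
      push_cast
      simp only [← hz]
      exact L.gram i.2 j.2
    simp only [Fin.val_inj] at e
    split_ifs with hij
    · rw [if_pos hij] at e; exact_mod_cast e
    · rw [if_neg hij] at e; exact_mod_cast e
  · intro j
    have e : ((∑ χ, dg χ * z χ j : ℤ) : ℂ) = 0 := by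
      push_cast
      simp only [← hz, hdg]
      exact L.sum_degree j
    exact_mod_cast e
  · have e : ((∑ χ, (((z χ 0 - z χ 1) * tau (z χ) ^ 2 : ℤ) : ℚ) / (dg χ : ℚ) : ℚ) : ℂ) = 0 := by
      rw [Rat.cast_sum]
      have h1 : ∀ χ : Cfsg.IrrCharacter G,
          (((((z χ 0 - z χ 1) * tau (z χ) ^ 2 : ℤ) : ℚ) / (dg χ : ℚ) : ℚ) : ℂ) =
          coord h lam (χ : G → ℂ) ((0 : Fin 3) : ℕ) * (χ : G → ℂ) t ^ 2 / (χ : G → ℂ) 1 -
          coord h lam (χ : G → ℂ) ((1 : Fin 3) : ℕ) * (χ : G → ℂ) t ^ 2 / (χ : G → ℂ) 1 := by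
        intro χ
        rw [hz, hz, ← sub_div, ← sub_mul, ← hdg]
        by_cases h0 : z χ = 0
        · simp [h0]
        · rw [← htau χ h0]; push_cast; ring
      rw [Finset.sum_congr rfl fun χ _ => h1 χ, Finset.sum_sub_distrib, sub_eq_zero]
      exact (L.sum_inv_eq hclass _).symm
    exact_mod_cast e
  · intro χ hne
    obtain ⟨n, hn⟩ := L.restrict_sylow hclass hexp (irr_isCharacter χ)
    rw [← hdg, ← htau χ hne] at hn
    have : dg χ + 7 * tau (z χ) = 8 * (n : ℤ) := by exact_mod_cast hn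
    exact ⟨by omega, ⟨n, this⟩⟩

/-- The automizer of the Sylow subgroup has order 7. -/
theorem relIndex_eq_seven (hperf : commutator G = ⊤) (S : Sylow 2 G)
    (hS : Cfsg.IsElementaryAbelian 2 (S : Subgroup G)) (hS8 : Nat.card (S : Subgroup G) = 8)
    (hC : ∀ t : G, orderOf t = 2 → Group.IsSolvable ↥(Subgroup.centralizer ({t} : Set G))) :
    (Subgroup.centralizer ((S : Subgroup G) : Set G)).relIndex
      (Subgroup.normalizer ((S : Subgroup G) : Set G)) = 7 := by
  rcases dichotomy S hS hS8 hperf hC with h | ⟨t, x, h, hclass⟩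
  · exact h
  · exact (no_setting h hperf hS.2 hclass).elim

end Cfsg.Agent.CharTheory.SylowEightAutomizer
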